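import Mathlib
import Cfsg.Prelude.Def_Solvable
import Cfsg.Agent.Lib.Coprime.Action

/-!
# Configurations of subgroups of prime order with odd lines

`GEN p q D`: `D` is a generating, conjugation-invariant set of subgroups of order `p`, two members
never lie in one `p`-group, two members generate a group of odd order in which any two members
generate everything, and a group of odd order generated by members is `Q ⋊ A` with `Q` a `q`-group.
-/

set_option autoImplicit false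

open Pointwise
open scoped commutatorElement

namespace CfsgLib.PairwiseLine

open CfsgLib.Coprime

variable {G : Type*} [Group G] {p q : ℕ}

/-- The subgroup generated by the `q`-elements of `K`. -/
def qPart (q : ℕ) (K : Subgroup G) : Subgroup G :=
  Subgroup.closure {x | x ∈ K ∧ ∃ n, x ^ q ^ n = 1}

theorem qPart_le (K : Subgroup G) : qPart q K ≤ K :=
  (Subgroup.closure_le K).mpr fun _ hx => hx.1

theorem mem_qPart {K : Subgroup G} {x : G} {n : ℕ} (hx : x ∈ K) (h : x ^ q ^ n = 1) :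
    x ∈ qPart q K :=
  Subgroup.subset_closure ⟨hx, n, h⟩

theorem qPart_mono {K L : Subgroup G} (h : K ≤ L) : qPart q K ≤ qPart q L :=
  Subgroup.closure_mono fun _ hx => ⟨h hx.1, hx.2⟩

theorem le_qPart {K P : Subgroup G} (hle : P ≤ K) (hP : IsPGroup q P) : P ≤ qPart q K := by
  intro x hx
  obtain ⟨n, hn⟩ := hP ⟨x, hx⟩
  exact mem_qPart (hle hx) (congrArg Subtype.val hn)

theorem conj_smul_qPart {K : Subgroup G} {g : G} (hg : MulAut.conj g • K = K) :
    MulAut.conj g • qPart q K = qPart q K := by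
  have hle : ∀ h : G, MulAut.conj h • K = K → MulAut.conj h • qPart q K ≤ qPart q K := by
    intro h hh
    rw [show MulAut.conj h • qPart q K
        = (qPart q K).map (MulAut.conj h).toMonoidHom from rfl, qPart, MonoidHom.map_closure,
      Subgroup.closure_le]
    rintro _ ⟨x, ⟨hx, n, hn⟩, rfl⟩
    refine mem_qPart (n := n) ?_ (by rw [← map_pow, hn, map_one])
    rw [← hh]
    exact Subgroup.smul_mem_pointwise_smul x _ K hx
  refine le_antisymm (hle g hg) ?_
  rw [Subgroup.subset_pointwise_smul_iff, ← map_inv]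
  exact hle _ (by rw [map_inv, inv_smul_eq_iff, hg])

theorem le_normalizer_qPart (K : Subgroup G) :
    K ≤ Subgroup.normalizer (qPart q K : Set G) := fun g hg =>
  mem_normalizer_iff_conj_smul.mpr (conj_smul_qPart (conj_smul_eq_of_mem hg))

theorem mem_normalizer_qPart {K : Subgroup G} {g : G} (hg : MulAut.conj g • K = K) :
    g ∈ Subgroup.normalizer (qPart q K : Set G) :=
  mem_normalizer_iff_conj_smul.mpr (conj_smul_qPart hg)

/-- The `q`-elements of `Q A` lie in `Q`. -/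
theorem qPart_eq [Finite G] (hp : p.Prime) (hq : q.Prime) (hpq : q ≠ p) {K Q A : Subgroup G}
    (hQ : IsPGroup q Q) (hA : Nat.card A ∣ p) (hAQ : A ≤ Subgroup.normalizer (Q : Set G))
    (hK : Q ⊔ A = K) : qPart q K = Q := by
  haveI := Fact.mk hq
  have hQK : Q ≤ K := hK ▸ le_sup_left
  refine le_antisymm ((Subgroup.closure_le Q).mpr ?_) (le_qPart hQK hQ)
  rintro x ⟨hx, n, hn⟩
  rw [← hK, ← SetLike.mem_coe, Subgroup.coe_mul_of_right_le_normalizer_left Q A hAQ] at hx
  obtain ⟨y, hy, a, ha, rfl⟩ := hx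
  have h : ∀ m : ℕ, (y * a) ^ m * (a ^ m)⁻¹ ∈ Q := by
    intro m
    induction m with
    | zero => simp
    | succ m ih =>
      have h2 := (Subgroup.mem_normalizer_iff.mp (hAQ (pow_mem ha m)) y).mp hy
      have h3 := mul_mem ih h2
      convert h3 using 1
      rw [pow_succ, pow_succ]
      group
  have h1 : a ^ q ^ n ∈ Q := by
    have := inv_mem (h (q ^ n))
    rwa [hn, one_mul, inv_inv] at this
  have hcop : (Nat.card Q).Coprime (Nat.card A) := by
    obtain ⟨k, hk⟩ := IsPGroup.iff_card.mp hQ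
    rw [hk]
    exact Nat.Coprime.coprime_dvd_right hA (Nat.Coprime.pow_left k ((Nat.coprime_primes hq hp).mpr hpq))
  have h2 : a ^ q ^ n ∈ Q ⊓ A := ⟨h1, pow_mem ha _⟩
  rw [inf_eq_bot_of_coprime_card hcop, Subgroup.mem_bot] at h2
  have h3 : a ^ p = 1 := by
    refine orderOf_dvd_iff_pow_eq_one.mp ((dvd_trans ?_ hA))
    have := orderOf_dvd_natCard (⟨a, ha⟩ : A)
    rwa [← Subgroup.orderOf_coe] at this
  have : a = 1 := by
    have hg := Nat.dvd_gcd (orderOf_dvd_of_pow_eq_one h3) (orderOf_dvd_of_pow_eq_one h2)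
    rw [(Nat.Coprime.pow_right n ((Nat.coprime_primes hp hq).mpr (Ne.symm hpq))).gcd_eq_one,
      Nat.dvd_one, orderOf_eq_one_iff] at hg
    exact hg
  subst this
  simpa using hy

/-- The derived subgroup of `N A`, with `A` abelian, lies in `N`. -/
theorem commutator_sup_le {N A : Subgroup G} (hA : ∀ x ∈ A, ∀ y ∈ A, Commute x y)
    (hAN : A ≤ Subgroup.normalizer (N : Set G)) : ⁅N ⊔ A, N ⊔ A⁆ ≤ N := by
  refine Subgroup.commutator_le.mpr fun x hx y hy => ?_
  rw [← SetLike.mem_coe, Subgroup.coe_mul_of_right_le_normalizer_left N A hAN] at hx hy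
  obtain ⟨u, hu, a, ha, rfl⟩ := hx
  obtain ⟨v, hv, b, hb, rfl⟩ := hy
  have cj : ∀ c ∈ A, ∀ w ∈ N, c * w * c⁻¹ ∈ N := fun c hc w hw =>
    (Subgroup.mem_normalizer_iff.mp (hAN hc) w).mp hw
  rw [show ⁅u * a, v * b⁆ = u * (a * v * a⁻¹) * (a * b * a⁻¹ * u⁻¹ * (a * b * a⁻¹)⁻¹)
      * (⁅a, b⁆ * v⁻¹ * ⁅a, b⁆⁻¹) * ⁅a, b⁆ by simp only [commutatorElement_def]; group,
    commutatorElement_eq_one_iff_commute.mpr (hA a ha b hb)]
  have hab : a * b * a⁻¹ = b := by rw [(hA a ha b hb).eq, mul_inv_cancel_right]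
  rw [hab, one_mul, inv_one, mul_one, mul_one]
  exact mul_mem (mul_mem (mul_mem hu (cj a ha v hv)) (cj b hb _ (inv_mem hu))) (inv_mem hv)

/-- `K` is generated by the members it contains. -/
def Closed (D : Set (Subgroup G)) (K : Subgroup G) : Prop :=
  K ≤ sSup {B | B ∈ D ∧ B ≤ K}

/-- The subgroup generated by the members satisfying `P`. -/
def hull (D : Set (Subgroup G)) (P : Subgroup G → Prop) : Subgroup G :=
  sSup {B | B ∈ D ∧ P B}

theorem le_hull {D : Set (Subgroup G)} {P : Subgroup G → Prop} {B : Subgroup G} (hB : B ∈ D)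
    (h : P B) : B ≤ hull D P :=
  le_sSup (α := Subgroup G) ⟨hB, h⟩

theorem hull_le {D : Set (Subgroup G)} {P : Subgroup G → Prop} {X : Subgroup G}
    (h : ∀ B ∈ D, P B → B ≤ X) : hull D P ≤ X :=
  sSup_le fun B hB => h B hB.1 hB.2

theorem closed_hull (D : Set (Subgroup G)) (P : Subgroup G → Prop) : Closed D (hull D P) :=
  sSup_le_sSup fun _ hB => ⟨hB.1, le_hull hB.1 hB.2⟩

theorem closed_sup {D : Set (Subgroup G)} {A B : Subgroup G} (hA : A ∈ D) (hB : B ∈ D) :
    Closed D (A ⊔ B) :=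
  sup_le (le_sSup (α := Subgroup G) ⟨hA, le_sup_left⟩) (le_sSup (α := Subgroup G) ⟨hB, le_sup_right⟩)

/-- `K` is the product of a `q`-group `qPart q K` and `A`, with the fixed points central. -/
structure Shape (q : ℕ) (D : Set (Subgroup G)) (A K : Subgroup G) : Prop where
  isPGroup : IsPGroup q (qPart q K)
  sup_eq : qPart q K ⊔ A = K
  conj_mem : ∀ B ∈ D, B ≤ K → ∃ x ∈ qPart q K, B = MulAut.conj x • A
  comm_eq : ⁅qPart q K, A⁆ = qPart q K
  fixed : qPart q K ⊓ Subgroup.centralizer (A : Set G) ≤ Subgroup.centralizer (K : Set G)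

/-- The configuration studied. -/
structure GEN (p q : ℕ) (D : Set (Subgroup G)) : Prop where
  pp : p.Prime
  qq : q.Prime
  p_ne_two : p ≠ 2
  q_ne_two : q ≠ 2
  ne : q ≠ p
  card : ∀ A ∈ D, Nat.card A = p
  conj : ∀ A ∈ D, ∀ g : G, MulAut.conj g • A ∈ D
  gen : sSup D = ⊤
  single : ∀ A ∈ D, ∀ B ∈ D, ∀ P : Subgroup G, IsPGroup p P → A ≤ P → B ≤ P → A = B
  odd_pair : ∀ A ∈ D, ∀ B ∈ D, Odd (Nat.card ↥(A ⊔ B))
  line : ∀ A ∈ D, ∀ B ∈ D, ∀ C ∈ D, ∀ C' ∈ D, C ≠ C' → C ≤ A ⊔ B → C' ≤ A ⊔ B → C ⊔ C' = A ⊔ B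
  shape : ∀ K : Subgroup G, Odd (Nat.card K) → Closed D K → ∀ A ∈ D, A ≤ K → Shape q D A K
  dich : (∀ K : Subgroup G, Odd (Nat.card K) → Closed D K → ∀ A ∈ D, A ≤ K →
      qPart q K ⊓ Subgroup.centralizer (A : Set G) = ⊥) ∨
    (∀ K : Subgroup G, Odd (Nat.card K) → Closed D K → ∀ A ∈ D, A ≤ K →
      ⁅qPart q K, qPart q K⁆ ≤ Subgroup.centralizer (K : Set G))

end CfsgLib.PairwiseLine
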