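import Cfsg.Agent.Lib.PairwiseLine.Structure
import Cfsg.Agent.Lib.Critical.Basic
import Cfsg.Agent.Lib.Transfer.Basic

/-!
# The intersection lemma

In a minimal configuration of even order, if `c` is a `q`-element of the kernel of
`Y = cenHull D c`, a proper member-generated subgroup normalised by `c` and sharing two members
with `Y` lies in `Y`.
-/

set_option autoImplicit false
set_option linter.style.haveILetI false

open Pointwise
open scoped commutatorElement

namespace CfsgLib.PairwiseLine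

open CfsgLib.Coprime

variable {G : Type*} [Group G] [Finite G] {p q : ℕ} {D : Set (Subgroup G)}

/-- A minimal configuration of even order with trivial odd core. -/
structure Minimal (p q : ℕ) (D : Set (Subgroup G)) : Prop where
  gen : GEN p q D
  odd_of_proper : ∀ K, Closed D K → K ≠ ⊤ → Odd (Nat.card K)
  core : Cfsg.pPrimeCore 2 G = ⊥

/-- A `q`-group acting on a proper section of a `q`-group fixes a nontrivial coset. -/
theorem exists_fixed_coset {q : ℕ} [Fact q.Prime] {E Q H : Subgroup G} (hQ : IsPGroup q Q)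
    (hE : IsPGroup q E) (hEQ : E ≤ Subgroup.normalizer (Q : Set G))
    (hQH : Q ≤ Subgroup.normalizer (H : Set G)) (hEH : E ≤ Subgroup.normalizer (H : Set G))
    (hlt : ¬ Q ≤ H) (hHQ : H ≤ Q) :
    ∃ r ∈ Q, r ∉ H ∧ ∀ x ∈ E, r⁻¹ * x * r * x⁻¹ ∈ H := by
  set X := Q ⊔ E
  haveI : (H.subgroupOf X).Normal :=
    Subgroup.normal_subgroupOf_iff_le_normalizer (hHQ.trans le_sup_left) |>.mpr (sup_le hQH hEH)
  haveI hQn : (Q.subgroupOf X).Normal :=
    Subgroup.normal_subgroupOf_iff_le_normalizer le_sup_left |>.mpr (sup_le Subgroup.le_normalizer hEQ)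
  set f := QuotientGroup.mk' (H.subgroupOf X)
  have hX : IsPGroup q X := hQ.to_sup_of_normal_left' hE hEQ
  haveI := (hX.to_quotient (H.subgroupOf X)).isNilpotent
  haveI : ((Q.subgroupOf X).map f).Normal := hQn.map f (QuotientGroup.mk'_surjective _)
  have hne : (Q.subgroupOf X).map f ≠ ⊥ := fun e => hlt fun x hx => by
    rw [Subgroup.map_eq_bot_iff, QuotientGroup.ker_mk'] at e
    have h1 : (⟨x, Subgroup.mem_sup_left hx⟩ : X) ∈ Q.subgroupOf X := hx
    exact e h1
  obtain ⟨y, hy, hy1⟩ := SetLike.not_le_iff_exists.mp (mt le_bot_iff.mp (Critical.inf_center_ne_bot _ hne))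
  obtain ⟨⟨r, hr, rfl⟩, hyc⟩ := Subgroup.mem_inf.mp hy
  refine ⟨r, hr, fun hrH => hy1 ?_, fun x hx => ?_⟩
  · rw [Subgroup.mem_bot, ← MonoidHom.mem_ker, QuotientGroup.ker_mk']
    exact hrH
  · have h1 : f (r⁻¹ * ⟨x, Subgroup.mem_sup_right hx⟩ * r * ⟨x, Subgroup.mem_sup_right hx⟩⁻¹) = 1 := by
      have := Subgroup.mem_center_iff.mp hyc (f ⟨x, Subgroup.mem_sup_right hx⟩)
      rw [map_mul, map_mul, map_mul, map_inv, map_inv, mul_assoc _ _ (f r), this]
      group
    rw [← MonoidHom.mem_ker, QuotientGroup.ker_mk'] at h1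
    exact h1

theorem mem_normalizer_of_le {P : Subgroup G} {g : G} (hg : ∀ x ∈ P, g * x * g⁻¹ ∈ P) :
    g ∈ Subgroup.normalizer (P : Set G) := by
  refine Coprime.mem_normalizer_iff_conj_smul.mpr
    (Subgroup.eq_of_le_of_card_ge ?_ (Coprime.card_conj_smul g P).ge)
  rintro _ ⟨x, hx, rfl⟩
  exact hg x hx

theorem sup_normalizer_le {A B : Subgroup G} {g : G} (hA : g ∈ Subgroup.normalizer (A : Set G))
    (hB : g ∈ Subgroup.normalizer (B : Set G)) :
    g ∈ Subgroup.normalizer ((A ⊔ B : Subgroup G) : Set G) := by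
  rw [Coprime.mem_normalizer_iff_conj_smul, Subgroup.smul_sup,
    Coprime.conj_smul_eq_self_of_mem_normalizer hA, Coprime.conj_smul_eq_self_of_mem_normalizer hB]

namespace Minimal

variable (m : Minimal p q D)

include m in
theorem eq_bot_of_normal {N : Subgroup G} (hN : N.Normal) (hodd : Odd (Nat.card N)) : N = ⊥ :=
  le_bot_iff.mp (m.core ▸ Transfer.le_pPrimeCore hN hodd.coprime_two_right)

include m in
theorem eq_bot_of_le_normalizer {P : Subgroup G} (hP : IsPGroup q P)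
    (hall : ∀ B ∈ D, B ≤ Subgroup.normalizer (P : Set G)) : P = ⊥ := by
  haveI := Fact.mk m.gen.qq
  refine m.eq_bot_of_normal (Subgroup.normalizer_eq_top_iff.mp (top_le_iff.mp ?_)) ?_
  · rw [← m.gen.gen]
    exact sSup_le hall
  · obtain ⟨k, hk⟩ := IsPGroup.iff_card.mp hP
    rw [hk]
    exact (m.gen.qq.odd_of_ne_two m.gen.q_ne_two).pow

include m in
theorem eq_one_of_central {z : G} (hz : z ∈ Subgroup.center G) {n : ℕ} (hn : z ^ q ^ n = 1) :
    z = 1 := by
  haveI : (Subgroup.zpowers z).Normal := ⟨fun x hx g => by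
    rw [Subgroup.mem_center_iff.mp (Subgroup.zpowers_le.mpr hz hx) g, mul_inv_cancel_right]
    exact hx⟩
  refine Subgroup.zpowers_eq_bot.mp (m.eq_bot_of_normal inferInstance ?_)
  rw [Nat.card_zpowers]
  exact ((m.gen.qq.odd_of_ne_two m.gen.q_ne_two).pow).of_dvd_nat (orderOf_dvd_of_pow_eq_one hn)

include m in
theorem cenHull_ne_top {z : G} (hz : z ≠ 1) {n : ℕ} (hn : z ^ q ^ n = 1) : cenHull D z ≠ ⊤ :=
  fun e => hz (m.eq_one_of_central (m.gen.cenHull_eq_top e) hn)

include m in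
theorem shape {K A : Subgroup G} (hK : Closed D K) (hKt : K ≠ ⊤) (hA : A ∈ D) (hAK : A ≤ K) :
    Shape q D A K :=
  m.gen.shape K (m.odd_of_proper K hK hKt) hK A hA hAK

include m in
theorem exists_pow_of_mem_qPart {K A : Subgroup G} (hS : Shape q D A K) {x : G}
    (hx : x ∈ qPart q K) : ∃ n, x ^ q ^ n = 1 := by
  obtain ⟨n, hn⟩ := hS.isPGroup ⟨x, hx⟩
  exact ⟨n, congrArg Subtype.val hn⟩

include m in
/-- An element of the kernel of `L ≤ W` centralising a member of `L` is central in `W`. -/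
theorem mem_centralizer_of_le_closed {L W A : Subgroup G} (hW : Closed D W) (hWt : W ≠ ⊤)
    (hLW : L ≤ W) (hA : A ∈ D) (hAL : A ≤ L) {x : G} (hx : x ∈ qPart q L)
    (hxA : x ∈ Subgroup.centralizer (A : Set G)) : x ∈ Subgroup.centralizer (W : Set G) :=
  (m.shape hW hWt hA (hAL.trans hLW)).fixed (Subgroup.mem_inf.mpr ⟨qPart_mono hLW hx, hxA⟩)

include m in
/-- A proper group above `cenHull D c` is contained in it. -/
theorem le_cenHull_of_ge {W A : Subgroup G} {c : G} (hW : Closed D W) (hWt : W ≠ ⊤)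
    (hYW : cenHull D c ≤ W) (hA : A ∈ D) (hAY : A ≤ cenHull D c)
    (hc : c ∈ qPart q (cenHull D c)) : W ≤ cenHull D c :=
  le_cenHull hW (m.mem_centralizer_of_le_closed hW hWt hYW hA hAY hc
    (mem_centralizer_of_le (hAY.trans (cenHull_le_centralizer D c))))

include m in
/-- One side of the construction. -/
theorem exists_member_normalizing {X I A E : Subgroup G} (hX : Closed D X) (hXt : X ≠ ⊤)
    (hI : Closed D I) (hIX : I ≤ X) (hA : A ∈ D) (hAI : A ≤ I) (hXI : ¬ X ≤ I)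
    (hcl : ∀ L : Subgroup G, Odd (Nat.card L) → Closed D L → ∀ B ∈ D, B ≤ L →
      ⁅qPart q L, qPart q L⁆ ≤ Subgroup.centralizer (L : Set G))
    (hQI : ∀ x ∈ qPart q I, ∀ y ∈ qPart q I, Commute x y) (hEq : IsPGroup q E)
    (hEX : ∀ x ∈ E, MulAut.conj x • X = X) (hEI : E ≤ Subgroup.centralizer (I : Set G))
    (S : Set G) (hSE : S ⊆ E)
    (hS : ∀ z ∈ X, z ∈ Subgroup.centralizer (X : Set G) → (∀ x ∈ S, Commute x z) → z ∈ E) :
    ∃ B ∈ D, B ≤ X ∧ ¬ B ≤ I ∧ B ≤ Subgroup.normalizer ((qPart q I ⊔ E : Subgroup G) : Set G) := by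
  haveI := Fact.mk m.gen.qq
  have hIt : I ≠ ⊤ := fun e => hXI (e ▸ le_top)
  have hSI := m.shape hI hIt hA hAI
  have hSX := m.shape hX hXt hA (hAI.trans hIX)
  set QX := qPart q X
  set QI := qPart q I
  have hQIX : QI ≤ QX := qPart_mono hIX
  obtain ⟨B₁, hB₁, hB₁X, hB₁A⟩ := m.gen.exists_two hX hA fun hle => hXI (hle.trans hAI)
  have hZQ : X ⊓ Subgroup.centralizer (X : Set G) ≤ QX :=
    m.gen.center_le_qPart hA hB₁ (Ne.symm hB₁A) (hAI.trans hIX) hB₁X hSX
  set Z := X ⊓ Subgroup.centralizer (X : Set G)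
  set H := QI ⊔ Z with hHdef
  have hHQ : H ≤ QX := sup_le hQIX hZQ
  have hder : ∀ x ∈ QX, ∀ y ∈ QX, ⁅x, y⁆ ∈ Z := fun x hx y hy => by
    refine Subgroup.mem_inf.mpr ⟨?_, hcl X (m.odd_of_proper X hX hXt) hX A hA (hAI.trans hIX)
      (Subgroup.commutator_mem_commutator hx hy)⟩
    exact mul_mem (mul_mem (mul_mem (qPart_le X hx) (qPart_le X hy)) (inv_mem (qPart_le X hx)))
      (inv_mem (qPart_le X hy))
  have hQH : QX ≤ Subgroup.normalizer (H : Set G) := fun y hy => mem_normalizer_of_le fun x hx => by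
    rw [show y * x * y⁻¹ = ⁅y, x⁆ * x by rw [commutatorElement_def]; group]
    exact mul_mem (Subgroup.mem_sup_right (hder y hy x (hHQ hx))) hx
  have hEZ : E ≤ Subgroup.normalizer (H : Set G) := fun x hx => by
    refine sup_normalizer_le (Subgroup.centralizer_le_normalizer _
      (Subgroup.centralizer_le (qPart_le I) (hEI hx))) ?_
    rw [Coprime.mem_normalizer_iff_conj_smul, Subgroup.smul_inf, conj_smul_centralizer, hEX x hx]
  have hEQ : E ≤ Subgroup.normalizer (QX : Set G) := fun x hx => mem_normalizer_qPart (hEX x hx)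
  have hQIN : Z ≤ Subgroup.normalizer (QI : Set G) := inf_le_right.trans
    ((Subgroup.centralizer_le ((qPart_le I).trans hIX)).trans (Subgroup.centralizer_le_normalizer _))
  have hdecomp : ∀ x ∈ H, ∃ i ∈ QI, ∃ z ∈ Z, i * z = x := fun x hx => by
    rw [← SetLike.mem_coe, hHdef, Subgroup.coe_mul_of_right_le_normalizer_left QI Z hQIN] at hx
    exact hx
  have hlt : ¬ QX ≤ H := fun hle => hXI (hX.trans (sSup_le fun B hB => by
    obtain ⟨x, hx, hxB⟩ := hSX.conj_mem B hB.1 hB.2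
    obtain ⟨i, hi, z, hz, rfl⟩ := hdecomp x (hle hx)
    rw [hxB, map_mul, mul_smul, Coprime.conj_smul_eq_self_of_mem_normalizer
      (Subgroup.centralizer_le_normalizer _ (Subgroup.centralizer_le (hAI.trans hIX)
        (Subgroup.mem_inf.mp hz).2))]
    exact (Subgroup.pointwise_smul_le_pointwise_smul_iff.mpr hAI).trans
      (Coprime.conj_smul_eq_of_mem (qPart_le I hi)).le))
  obtain ⟨r, hr, hrH, hrE⟩ := exists_fixed_coset hSX.isPGroup hEq hEQ hQH hEZ hlt hHQ
  -- a displacement of `r` outside `H`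
  obtain ⟨a, ha, haH⟩ : ∃ a ∈ A, r⁻¹ * (a * r * a⁻¹) ∉ H := by
    by_contra hcon
    push Not at hcon
    have hAH : A ≤ Subgroup.normalizer (H : Set G) := fun a ha => by
      refine sup_normalizer_le (m.gen.normalizer_qPart hAI ha) ?_
      rw [Coprime.mem_normalizer_iff_conj_smul, Subgroup.smul_inf, conj_smul_centralizer,
        Coprime.conj_smul_eq_of_mem (hIX (hAI ha))]
    haveI := hSX.isPGroup.isNilpotent
    obtain ⟨c, hc, hcH⟩ := Coprime.exists_centralizer_mem_coset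
      (m.gen.normalizer_qPart (hAI.trans hIX)) (m.gen.coprime_qPart hA hSX).symm
      (Or.inr inferInstance) hHQ hAH hr hcon
    have hcZ : c ∈ H := Subgroup.mem_sup_right
      (Subgroup.mem_inf.mpr ⟨qPart_le X (Subgroup.mem_inf.mp hc).1, hSX.fixed hc⟩)
    have := mul_mem hcZ (inv_mem hcH)
    rw [mul_inv_rev, inv_inv, mul_inv_cancel_left] at this
    exact hrH this
  have hNX : ∀ g ∈ A, g ∈ Subgroup.normalizer (QX : Set G) :=
    fun g hg => m.gen.normalizer_qPart (hAI.trans hIX) hg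
  set s := a * r * a⁻¹ with hsdef
  set t := r⁻¹ * s with htdef
  have hs : s ∈ QX := (Subgroup.mem_normalizer_iff.mp (hNX a ha) r).mp hr
  have ht : t ∈ QX := mul_mem (inv_mem hr) hs
  -- values of `t` on `E`
  have hval : ∀ x ∈ E, ∃ i ∈ QI, ∃ j ∈ QI, t⁻¹ * x * t * x⁻¹ = (t⁻¹ * i * t) * j := by
    intro x hx
    have hxa : a * x = x * a := (hEI hx) a (hAI ha)
    obtain ⟨i, hi, z, hz, hiz⟩ := hdecomp _ (hrE x hx)
    refine ⟨i⁻¹, inv_mem hi, a * i * a⁻¹,
      (Subgroup.mem_normalizer_iff.mp (m.gen.normalizer_qPart hAI ha) i).mp hi, ?_⟩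
    have hzX := (Subgroup.mem_inf.mp hz).2
    have hz1 : a * z = z * a := hzX a (hIX (hAI ha))
    have hz2 : t * z = z * t := hzX t (qPart_le X ht)
    have hz4 : i * z = z * i := hzX i (hIX (qPart_le I hi))
    have hxa' : a⁻¹ * x = x * a⁻¹ := by
      rw [inv_mul_eq_iff_eq_mul, ← mul_assoc, hxa, mul_inv_cancel_right]
    calc t⁻¹ * x * t * x⁻¹
        = t⁻¹ * (r⁻¹ * x * r * x⁻¹)⁻¹ * t * (a * r⁻¹ * (a⁻¹ * x) * a * r * (a⁻¹ * x⁻¹)) := by
          rw [htdef, hsdef]; group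
      _ = t⁻¹ * (r⁻¹ * x * r * x⁻¹)⁻¹ * t * (a * (r⁻¹ * x * r * x⁻¹) * a⁻¹) := by
          rw [hxa', show r⁻¹ * x * r * x⁻¹ = r⁻¹ * (x * a⁻¹) * a * r * x⁻¹ by group]
          have : a⁻¹ * x⁻¹ = x⁻¹ * a⁻¹ := by rw [← mul_inv_rev, ← mul_inv_rev, hxa]
          rw [this]; group
      _ = t⁻¹ * (i * z)⁻¹ * t * (a * (z * i) * a⁻¹) := by rw [← hiz, ← hz4]
      _ = t⁻¹ * z⁻¹ * i⁻¹ * t * ((a * z) * i * a⁻¹) := by group
      _ = t⁻¹ * z⁻¹ * i⁻¹ * (t * z) * (a * i * a⁻¹) := by rw [hz1]; group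
      _ = t⁻¹ * z⁻¹ * (i⁻¹ * z) * t * (a * i * a⁻¹) := by rw [hz2]; group
      _ = t⁻¹ * z⁻¹ * (z * i⁻¹) * t * (a * i * a⁻¹) := by
          rw [show i⁻¹ * z = z * i⁻¹ by rw [inv_mul_eq_iff_eq_mul, ← mul_assoc, hz4, mul_inv_cancel_right]]
      _ = _ := by group
  have htE : ∀ x ∈ E, t⁻¹ * x * t * x⁻¹ ∈ H := by
    intro x hx
    obtain ⟨i, hi, j, hj, e⟩ := hval x hx
    rw [e]
    exact mul_mem ((Subgroup.mem_normalizer_iff''.mp (hQH ht) i).mp (Subgroup.mem_sup_left hi))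
      (Subgroup.mem_sup_left hj)
  -- commutators of `t` with `QI`
  have hHi : ∀ i ∈ QI, ∀ η ∈ H, i * η = η * i := by
    intro i hi η hη
    obtain ⟨i', hi', z, hz, rfl⟩ := hdecomp η hη
    have hz4 : i * z = z * i := (Subgroup.mem_inf.mp hz).2 i (hIX (qPart_le I hi))
    rw [← mul_assoc, (hQI i hi i' hi').eq, mul_assoc, hz4, mul_assoc]
  have hcomm : ∀ i ∈ QI, ⁅t, i⁆ ∈ E := by
    intro i hi
    have hw := Subgroup.mem_inf.mp (hder t ht i (hQIX hi))
    refine hS _ hw.1 hw.2 fun x hx => ?_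
    have hxE := hSE hx
    have hxi : i * x = x * i := hEI hxE i (qPart_le I hi)
    have hη := hHi i hi _ (htE x hxE)
    have h1 : x * ⁅t, i⁆ * x⁻¹ = ⁅x * t * x⁻¹, i⁆ := by
      have hxi' : x * i * x⁻¹ = i := by rw [← hxi, mul_inv_cancel_right]
      conv_rhs => rw [← hxi']
      simp only [commutatorElement_def]; group
    have h2 : ⁅x * t * x⁻¹, i⁆ = ⁅t, i⁆ := by
      rw [show x * t * x⁻¹ = t * (t⁻¹ * x * t * x⁻¹) by group, commutatorElement_def,
        commutatorElement_def]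
      generalize t⁻¹ * x * t * x⁻¹ = η at hη ⊢
      calc t * η * i * (t * η)⁻¹ * i⁻¹ = t * (η * i) * η⁻¹ * t⁻¹ * i⁻¹ := by group
        _ = t * (i * η) * η⁻¹ * t⁻¹ * i⁻¹ := by rw [hη]
        _ = _ := by group
    exact mul_inv_eq_iff_eq_mul.mp (h1.trans h2)
  have hti : ∀ i ∈ QI, t⁻¹ * i * t ∈ QI ⊔ E := by
    intro i hi
    have hw : t * ⁅t, i⁆ = ⁅t, i⁆ * t :=
      (Subgroup.mem_inf.mp (hder t ht i (hQIX hi))).2 t (qPart_le X ht)
    rw [show t⁻¹ * i * t = (t⁻¹ * ⁅t, i⁆ * t)⁻¹ * i by rw [commutatorElement_def]; group,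
      mul_assoc t⁻¹, ← hw, inv_mul_cancel_left]
    exact mul_mem (Subgroup.mem_sup_right (inv_mem (hcomm i hi))) (Subgroup.mem_sup_left hi)
  have hQIE : E ≤ Subgroup.normalizer (QI : Set G) := fun x hx =>
    Subgroup.centralizer_le_normalizer _ (Subgroup.centralizer_le (qPart_le I) (hEI hx))
  have htP : t⁻¹ ∈ Subgroup.normalizer ((QI ⊔ E : Subgroup G) : Set G) := by
    refine mem_normalizer_of_le fun y hy => ?_
    rw [← SetLike.mem_coe, Subgroup.coe_mul_of_right_le_normalizer_left QI E hQIE] at hy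
    obtain ⟨i, hi, x, hx, rfl⟩ := hy
    obtain ⟨i', hi', j, hj, e⟩ := hval x hx
    rw [show t⁻¹ * (i * x) * t⁻¹⁻¹ = t⁻¹ * i * t * (t⁻¹ * x * t * x⁻¹) * x by group, e]
    exact mul_mem (mul_mem (hti i hi) (mul_mem (hti i' hi') (Subgroup.mem_sup_left hj)))
      (Subgroup.mem_sup_right hx)
  have hAP : A ≤ Subgroup.normalizer ((QI ⊔ E : Subgroup G) : Set G) := fun b hb =>
    sup_normalizer_le (m.gen.normalizer_qPart hAI hb) (Subgroup.centralizer_le_normalizer _
      (Subgroup.le_centralizer_iff.mp (hEI.trans (Subgroup.centralizer_le hAI)) hb))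
  refine ⟨MulAut.conj t • A, m.gen.conj A hA t, (m.gen.conj_le_conj hA (hAI.trans hIX)
    (Coprime.conj_smul_eq_of_mem (qPart_le X ht))).2, fun hle => haH ?_, ?_⟩
  · obtain ⟨i, hi, hiA⟩ := hSI.conj_mem _ (m.gen.conj A hA t) hle
    have h1 := (m.gen.conj_eq_conj_iff hA (hAI.trans hIX) hSX ht (hQIX hi)).mp hiA
    have h2 : t⁻¹ * i ∈ H := Subgroup.mem_sup_right (Subgroup.mem_inf.mpr
      ⟨qPart_le X (mul_mem (inv_mem ht) (hQIX hi)), h1⟩)
    have := mul_mem (Subgroup.mem_sup_left (T := Z) hi) (inv_mem h2)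
    rwa [mul_inv_rev, inv_inv, mul_inv_cancel_left] at this
  · refine (Subgroup.pointwise_smul_le_pointwise_smul_iff.mpr hAP).trans ?_
    exact (Coprime.conj_smul_eq_of_mem (X := Subgroup.normalizer _)
      (inv_inv t ▸ inv_mem htP)).le

include m in
/-- The intersection lemma. -/
theorem le_of_two_common {c : G} (hcY : c ∈ qPart q (cenHull D c)) (hc : c ≠ 1)
    (hYt : cenHull D c ≠ ⊤) {M A B : Subgroup G} (hM : Closed D M) (hMt : M ≠ ⊤)
    (hMc : MulAut.conj c • M = M) (hA : A ∈ D) (hB : B ∈ D) (hne : A ≠ B) (hAM : A ≤ M)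
    (hBM : B ≤ M) (hAY : A ≤ cenHull D c) (hBY : B ≤ cenHull D c) : M ≤ cenHull D c := by
  classical
  haveI := Fact.mk m.gen.qq
  by_contra hMY
  set Y := cenHull D c
  have hYc : Closed D Y := closed_hull _ _
  have hSY := m.shape hYc hYt hA hAY
  have hcC : c ∈ Subgroup.centralizer (Y : Set G) :=
    mem_centralizer_of_le (cenHull_le_centralizer D c)
  have hcl := m.gen.class_two (m.odd_of_proper Y hYc hYt) hYc hA hAY hcY
    (Subgroup.centralizer_le hAY hcC) hc
  -- a maximal intersection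
  let Ok : Subgroup G → Prop := fun M => Closed D M ∧ M ≠ ⊤ ∧ MulAut.conj c • M = M ∧ ¬ M ≤ Y
  let meet : Subgroup G → Subgroup G := fun M => hull D fun B => B ≤ M ∧ B ≤ Y
  obtain ⟨I, -, hI⟩ := Finite.exists_le_maximal
    (p := fun I : Subgroup G => ∃ M, Ok M ∧ meet M = I ∧ A ≤ I ∧ B ≤ I)
    (a := meet M) ⟨M, ⟨hM, hMt, hMc, hMY⟩, rfl, le_hull hA ⟨hAM, hAY⟩, le_hull hB ⟨hBM, hBY⟩⟩
  obtain ⟨M₁, ⟨hM₁, hM₁t, hM₁c, hM₁Y⟩, hM₁I, hAI, hBI⟩ := hI.prop
  have hIM : I ≤ M₁ := hM₁I ▸ hull_le fun _ _ hE => hE.1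
  have hIY : I ≤ Y := hM₁I ▸ hull_le fun _ _ hE => hE.2
  have hIc : Closed D I := hM₁I ▸ closed_hull _ _
  have hmax : ∀ M', Ok M' → I ≤ M' → ∀ E ∈ D, E ≤ M' → E ≤ Y → E ≤ I := by
    intro M' hok hle E hE hEM hEY
    have hge : I ≤ meet M' := hIc.trans (sSup_le fun E hE =>
      le_hull hE.1 ⟨hE.2.trans hle, hE.2.trans hIY⟩)
    exact (le_hull hE (show E ≤ M' ∧ E ≤ Y from ⟨hEM, hEY⟩)).trans
      (hI.2 ⟨M', hok, rfl, hAI.trans hge, hBI.trans hge⟩ hge)
  have hYI : ¬ Y ≤ I := fun hle =>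
    hM₁Y (m.le_cenHull_of_ge hM₁ hM₁t (hle.trans hIM) hA hAY hcY)
  have hIt : I ≠ ⊤ := fun e => hYI (e ▸ le_top)
  have hSI := m.shape hIc hIt hA hAI
  have hIq : I ⊓ Subgroup.centralizer (I : Set G) ≤ qPart q I :=
    m.gen.center_le_qPart hA hB hne hAI hBI hSI
  -- the centre of `I` is trivial
  have hZI : I ⊓ Subgroup.centralizer (I : Set G) = ⊥ := by
    rw [eq_bot_iff]
    intro z hz
    rw [Subgroup.mem_bot]
    by_contra hz1
    have hzq := hIq hz
    have hzA := Subgroup.centralizer_le hAI (Subgroup.mem_inf.mp hz).2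
    obtain ⟨n, hn⟩ := m.exists_pow_of_mem_qPart hSI hzq
    have hzY := m.mem_centralizer_of_le_closed hYc hYt hIY hA hAI hzq hzA
    have hzM := m.mem_centralizer_of_le_closed hM₁ hM₁t hIM hA hAI hzq hzA
    exact hM₁Y ((le_cenHull hM₁ hzM).trans (m.le_cenHull_of_ge (closed_hull _ _)
      (m.cenHull_ne_top hz1 hn) (le_cenHull hYc hzY) hA hAY hcY))
  have hQI : ∀ x ∈ qPart q I, ∀ y ∈ qPart q I, Commute x y := by
    intro x hx y hy
    have h1 : ⁅x, y⁆ ∈ I ⊓ Subgroup.centralizer (I : Set G) := Subgroup.mem_inf.mpr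
      ⟨mul_mem (mul_mem (mul_mem (qPart_le I hx) (qPart_le I hy)) (inv_mem (qPart_le I hx)))
        (inv_mem (qPart_le I hy)),
        hcl I (m.odd_of_proper I hIc hIt) hIc A hA hAI (Subgroup.commutator_mem_commutator hx hy)⟩
    rw [hZI, Subgroup.mem_bot] at h1
    exact commutatorElement_eq_one_iff_commute.mp h1
  -- the main construction
  have finish : ∀ M', Ok M' → I ≤ M' →
      (∀ x ∈ Subgroup.centralizer (I : Set G), x ∈ Subgroup.centralizer
        ((M' ⊓ Subgroup.centralizer (M' : Set G) ⊓ Subgroup.centralizer {c} : Subgroup G) : Set G) →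
        MulAut.conj x • M' = M') → False := by
    intro M' hok hle hnorm
    obtain ⟨hM', hM't, hM'c, hM'Y⟩ := hok
    have hSM := m.shape hM' hM't hA (hAI.trans hle)
    set EM := M' ⊓ Subgroup.centralizer (M' : Set G) ⊓ Subgroup.centralizer {c} with hEM
    set EY := Y ⊓ Subgroup.centralizer (Y : Set G) ⊓ Subgroup.centralizer (EM : Set G) with hEY
    have hEMq : IsPGroup q EM := hSM.isPGroup.to_le (inf_le_left.trans
      (m.gen.center_le_qPart hA hB hne (hAI.trans hle) (hBI.trans hle) hSM))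
    have hEYq : IsPGroup q EY := hSY.isPGroup.to_le (inf_le_left.trans
      (m.gen.center_le_qPart hA hB hne hAY hBY hSY))
    have hEMY : ∀ x ∈ EM, MulAut.conj x • Y = Y := fun x hx =>
      m.gen.conj_smul_cenHull_of_commute
        (Subgroup.mem_centralizer_singleton_iff.mp (Subgroup.mem_inf.mp hx).2)
    have hEMN : EM ≤ Subgroup.normalizer (EY : Set G) := by
      intro x hx
      rw [Coprime.mem_normalizer_iff_conj_smul, hEY, Subgroup.smul_inf, Subgroup.smul_inf,
        conj_smul_centralizer, conj_smul_centralizer, hEMY x hx, Coprime.conj_smul_eq_of_mem hx]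
    set E := EY ⊔ EM
    have hEq : IsPGroup q E := hEYq.to_sup_of_normal_left' hEMq hEMN
    have hEYI : EY ≤ Subgroup.centralizer (I : Set G) :=
      (inf_le_left.trans inf_le_right).trans (Subgroup.centralizer_le hIY)
    have hEI : E ≤ Subgroup.centralizer (I : Set G) :=
      sup_le hEYI ((inf_le_left.trans inf_le_right).trans (Subgroup.centralizer_le hle))
    have hEM' : E ≤ Subgroup.normalizer (M' : Set G) :=
      sup_le (fun x hx => Coprime.mem_normalizer_iff_conj_smul.mpr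
          (hnorm x (hEYI hx) (Subgroup.mem_inf.mp hx).2))
        ((inf_le_left.trans inf_le_left).trans Subgroup.le_normalizer)
    have hEY' : E ≤ Subgroup.normalizer (Y : Set G) :=
      sup_le ((inf_le_left.trans inf_le_left).trans Subgroup.le_normalizer)
        (fun x hx => Coprime.mem_normalizer_iff_conj_smul.mpr (hEMY x hx))
    have hcEY : c ∈ EY := Subgroup.mem_inf.mpr ⟨Subgroup.mem_inf.mpr ⟨qPart_le Y hcY, hcC⟩,
      fun x hx => Subgroup.mem_centralizer_singleton_iff.mp (Subgroup.mem_inf.mp hx).2⟩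
    have hcE : c ∈ E := Subgroup.mem_sup_left hcEY
    obtain ⟨BM, hBM, hBMM, hBMI, hBMn⟩ := m.exists_member_normalizing hM' hM't hIc hle hA hAI
      (fun h1 => hM'Y (h1.trans hIY)) hcl hQI hEq
      (fun x hx => Coprime.conj_smul_eq_self_of_mem_normalizer (hEM' hx)) hEI {c}
      (Set.singleton_subset_iff.mpr hcE) (fun z hz hzC hcomm => Subgroup.mem_sup_right
        (Subgroup.mem_inf.mpr ⟨Subgroup.mem_inf.mpr ⟨hz, hzC⟩,
          Subgroup.mem_centralizer_singleton_iff.mpr (hcomm c rfl).eq.symm⟩))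
    obtain ⟨BY, hBY', hBYY, hBYI, hBYn⟩ := m.exists_member_normalizing hYc hYt hIc hIY hA hAI
      hYI hcl hQI hEq
      (fun x hx => Coprime.conj_smul_eq_self_of_mem_normalizer (hEY' hx)) hEI (EM : Set G)
      (fun x hx => Subgroup.mem_sup_right hx) (fun z hz hzC hcomm => Subgroup.mem_sup_left
        (Subgroup.mem_inf.mpr ⟨Subgroup.mem_inf.mpr ⟨hz, hzC⟩, fun x hx => (hcomm x hx).eq⟩))
    set P := qPart q I ⊔ E
    have hEP : E ≤ Subgroup.normalizer (qPart q I : Set G) :=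
      (hEI.trans (Subgroup.centralizer_le (qPart_le I))).trans (Subgroup.centralizer_le_normalizer _)
    have hPq : IsPGroup q P := hSI.isPGroup.to_sup_of_normal_left' hEq hEP
    set T := hull D fun X => X ≤ Subgroup.normalizer (P : Set G)
    have hIT : I ≤ T := hIc.trans (sSup_le fun X hX => le_hull hX.1 (hX.2.trans fun g hg =>
      sup_normalizer_le (le_normalizer_qPart I hg)
        (Subgroup.centralizer_le_normalizer _ (Subgroup.le_centralizer_iff.mp hEI hg))))
    have hTt : T ≠ ⊤ := by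
      intro e
      have hPbot : P = ⊥ := m.eq_bot_of_le_normalizer hPq fun X _ =>
        (le_top.trans e.ge).trans (hull_le fun _ _ h => h)
      exact hc (Subgroup.mem_bot.mp (hPbot ▸ Subgroup.mem_sup_right hcE))
    have hTc : MulAut.conj c • T = T := m.gen.conj_smul_hull fun X _ hX =>
      (Subgroup.pointwise_smul_le_pointwise_smul_iff.mpr hX).trans
        (Coprime.conj_smul_eq_of_mem (Subgroup.le_normalizer (Subgroup.mem_sup_right hcE))).le
    have hBMT : BM ≤ T := le_hull hBM hBMn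
    have hTY : ¬ T ≤ Y := fun h1 =>
      hBMI (hmax M' ⟨hM', hM't, hM'c, hM'Y⟩ hle BM hBM hBMM (hBMT.trans h1))
    exact hBYI (hmax T ⟨closed_hull _ _, hTt, hTc, hTY⟩ hIT BY hBY' (le_hull hBY' hBYn) hBYY)
  -- a group with nontrivial centre
  have withCentre : ∀ M', Ok M' → I ≤ M' → M' ⊓ Subgroup.centralizer (M' : Set G) = ⊥ := by
    intro M' hok hle
    by_contra hZ
    obtain ⟨hM', hM't, hM'c, hM'Y⟩ := hok
    have hSM := m.shape hM' hM't hA (hAI.trans hle)
    set Z := M' ⊓ Subgroup.centralizer (M' : Set G) with hZdef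
    have hZq : IsPGroup q Z :=
      hSM.isPGroup.to_le (m.gen.center_le_qPart hA hB hne (hAI.trans hle) (hBI.trans hle) hSM)
    obtain ⟨nc, hnc⟩ := m.exists_pow_of_mem_qPart hSY hcY
    obtain ⟨d, hd, hd1, hdc⟩ := exists_fixed_coset (E := Subgroup.zpowers c) (Q := Z) (H := ⊥) hZq
      (IsPGroup.iff_orderOf.mpr fun x => by
        have := orderOf_dvd_natCard x
        rw [Nat.card_zpowers] at this
        obtain ⟨k, -, hk⟩ := (Nat.dvd_prime_pow m.gen.qq).mp
          (this.trans (orderOf_dvd_of_pow_eq_one hnc))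
        exact ⟨k, hk⟩)
      (Subgroup.zpowers_le.mpr (by
        rw [Coprime.mem_normalizer_iff_conj_smul, hZdef, Subgroup.smul_inf, conj_smul_centralizer,
          hM'c]))
      (by intro x _; exact mem_normalizer_of_le fun y hy => by simp [Subgroup.mem_bot.mp hy])
      (by intro x _; exact mem_normalizer_of_le fun y hy => by simp [Subgroup.mem_bot.mp hy])
      (fun hle => hZ (le_bot_iff.mp hle)) bot_le
    have hd0 : d ≠ 1 := fun e => hd1 (Subgroup.mem_bot.mpr e)
    obtain ⟨nd, hnd⟩ := m.exists_pow_of_mem_qPart hSM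
      (m.gen.center_le_qPart hA hB hne (hAI.trans hle) (hBI.trans hle) hSM hd)
    have hcd : Commute c d := by
      have := Subgroup.mem_bot.mp (hdc c (Subgroup.mem_zpowers c))
      rw [mul_inv_eq_one, mul_assoc, inv_mul_eq_iff_eq_mul] at this
      exact this
    have hMd : M' ≤ cenHull D d := le_cenHull hM' (Subgroup.mem_inf.mp hd).2
    refine finish (cenHull D d) ⟨closed_hull _ _, m.cenHull_ne_top hd0 hnd,
      m.gen.conj_smul_cenHull_of_commute hcd, fun h1 => hM'Y (hMd.trans h1)⟩ (hle.trans hMd)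
      fun x _ hx => m.gen.conj_smul_cenHull_of_commute ?_
    refine (hx d (Subgroup.mem_inf.mpr ⟨Subgroup.mem_inf.mpr ⟨hMd (Subgroup.mem_inf.mp hd).1,
      mem_centralizer_of_le (cenHull_le_centralizer D d)⟩, ?_⟩)).symm
    exact Subgroup.mem_centralizer_singleton_iff.mpr hcd.eq.symm
  -- the group generated by the members normalising the kernel of `I`
  set T := hull D fun X => X ≤ Subgroup.normalizer (qPart q I : Set G)
  have hTt : T ≠ ⊤ := by
    intro e
    have hbot : qPart q I = ⊥ := m.eq_bot_of_le_normalizer hSI.isPGroup fun X _ =>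
      (le_top.trans e.ge).trans (hull_le fun _ _ h => h)
    have := hSI.sup_eq
    rw [hbot, bot_sup_eq] at this
    exact hne (m.gen.eq_of_le hB hA (this ▸ hBI)).symm
  have hcI : c ∈ Subgroup.centralizer (qPart q I : Set G) :=
    Subgroup.centralizer_le ((qPart_le I).trans hIY) hcC
  have hM₁Z := withCentre M₁ ⟨hM₁, hM₁t, hM₁c, hM₁Y⟩ hIM
  have hSM₁ := m.shape hM₁ hM₁t hA (hAI.trans hIM)
  have hM₁T : M₁ ≤ T := by
    refine hM₁.trans (sSup_le fun X hX => ?_)
    obtain ⟨x, hx, hxX⟩ := hSM₁.conj_mem X hX.1 hX.2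
    refine le_hull hX.1 ?_
    have hxN : x ∈ Subgroup.normalizer (qPart q I : Set G) := by
      refine Subgroup.centralizer_le_normalizer _ fun y hy => ?_
      have h1 : ⁅y, x⁆ ∈ M₁ ⊓ Subgroup.centralizer (M₁ : Set G) := Subgroup.mem_inf.mpr
        ⟨mul_mem (mul_mem (mul_mem (hIM (qPart_le I hy)) (qPart_le M₁ hx))
          (inv_mem (hIM (qPart_le I hy)))) (inv_mem (qPart_le M₁ hx)),
          hcl M₁ (m.odd_of_proper M₁ hM₁ hM₁t) hM₁ A hA (hAI.trans hIM)
            (Subgroup.commutator_mem_commutator (qPart_mono hIM hy) hx)⟩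
      rw [hM₁Z, Subgroup.mem_bot] at h1
      exact (commutatorElement_eq_one_iff_commute.mp h1).eq
    rw [hxX]
    exact (Subgroup.pointwise_smul_le_pointwise_smul_iff.mpr (m.gen.normalizer_qPart hAI)).trans
      (Coprime.conj_smul_eq_of_mem hxN).le
  have hnormT : ∀ x ∈ Subgroup.centralizer (qPart q I : Set G), MulAut.conj x • T = T := fun x hx =>
    m.gen.conj_smul_hull fun X _ hX => (Subgroup.pointwise_smul_le_pointwise_smul_iff.mpr hX).trans
      (Coprime.conj_smul_eq_of_mem (Subgroup.centralizer_le_normalizer _ hx)).le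
  exact finish T ⟨closed_hull _ _, hTt, hnormT c hcI, fun h1 => hM₁Y (hM₁T.trans h1)⟩
    (hIM.trans hM₁T) fun x hx _ => hnormT x (Subgroup.centralizer_le (qPart_le I) hx)

end Minimal

end CfsgLib.PairwiseLine
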