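import Cfsg.Agent.Lib.Blocks.SectionOrth
import Cfsg.Agent.Lib.Blocks.PairConj
import Cfsg.Agent.Lib.Blocks.BrauerFeit
import Cfsg.Agent.Lib.ZStar.Basic

/-!
# Class products in the principal 2-block
-/

set_option autoImplicit false

namespace CfsgLib.PairwiseLine

open Cfsg CfsgLib.Blocks
open scoped ComplexConjugate CfsgLib.Char

variable {G : Type*} [Group G] [Finite G]

/-- If `χ (t aᵍ) = χ (t)` in the principal 2-block for an involution `t`, then `a` lies in a proper
normal subgroup. -/
theorem exists_normal_of_translates {t a : G} (ht : orderOf t = 2)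
    (hconst : ∀ [Fintype G] (M : Ideal AlgInt), IsPModular 2 M → ∀ χ : IrrCharacter G,
      χ ∈ principalBlock M G → ∀ g : G, (χ : G → ℂ) (t * (g * a * g⁻¹)) = (χ : G → ℂ) t) :
    ∃ K : Subgroup G, K.Normal ∧ K ≠ ⊤ ∧ a ∈ K := by
  classical
  haveI := Fintype.ofFinite G
  by_contra hcon
  obtain ⟨M, hM⟩ := exists_isPModular (p := 2) Nat.prime_two
  have := isPrime_of_isPModular hM
  have hzero : ∀ χ : IrrCharacter G, χ ∈ principalBlock M G → χ ≠ trivIrr G →
      (χ : G → ℂ) t = 0 := by
    intro χ hχ hne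
    by_contra hχt
    have h1 : ∀ y : G, (χ : G → ℂ) (y * a * y⁻¹ * t) = (χ : G → ℂ) t := fun y => by
      rw [← hconst M hM χ hχ y]
      exact (IsClassFunction.eq_of_isConj (irr_classFunction χ)
        (isConj_iff.mpr ⟨t, by group⟩ : IsConj (y * a * y⁻¹ * t) (t * (y * a * y⁻¹))))
    have h2 := sum_conj_mul_irr χ a t
    simp only [h1, Finset.sum_const, Finset.card_univ, nsmul_eq_mul,
      ← Nat.card_eq_fintype_card] at h2
    have hd : (χ : G → ℂ) 1 ≠ 0 := Char.irr_degree_ne_zero χ.2
    have hn : (Nat.card G : ℂ) ≠ 0 := Nat.cast_ne_zero.mpr Nat.card_pos.ne'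
    rw [eq_div_iff hd] at h2
    have h3 : (χ : G → ℂ) a = (χ : G → ℂ) 1 := by
      apply mul_left_cancel₀ (mul_ne_zero hn hχt)
      linear_combination -h2
    exact hcon (ZStar.exists_normal_of_value_eq hne h3)
  have h := sum_block_conj_eq_zero_of_section hM (B := principalBlock M G)
    isPBlock_principalBlock (x := t) (g := 1) ⟨1, by rw [ht, pow_one]⟩ fun k _ hk hc => by
      rw [isConj_one_left, mul_eq_one_iff_eq_inv'] at hc
      exact hk (by rw [hc, orderOf_inv, ht])
  rw [Finset.sum_eq_single (trivIrr G)] at h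
  · simp [trivIrr] at h
  · intro χ hχ hne
    rw [hzero χ (Finset.mem_filter.mp hχ).2 hne, zero_mul]
  · intro hnot
    exact absurd (Finset.mem_filter.mpr ⟨Finset.mem_univ _, trivIrr_mem_principalBlock G⟩) hnot

end CfsgLib.PairwiseLine
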