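import Mathlib.GroupTheory.Nilpotent
import Mathlib.GroupTheory.Abelianization.Defs
import Mathlib.GroupTheory.PGroup
import Mathlib.Algebra.Group.Subgroup.ZPowers.Lemmas

/-!
# Fixed points of an automorphism whose orbits of displacements commute

`Q` is a `q`-group generated by the displacements `g⁻¹ α g` of an automorphism `α` of order prime
to `q`.
-/

set_option autoImplicit false

namespace CfsgLib.PairwiseLine

open scoped commutatorElement

variable {Q : Type*} [Group Q]

/-- The displacement of `g`. -/
def disp (α : MulAut Q) (g : Q) : Q := g⁻¹ * α g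

theorem apply_disp (α β : MulAut Q) (h : Commute β α) (g : Q) :
    β (disp α g) = disp α (β g) := by
  rw [disp, disp, map_mul, map_inv, ← MulAut.mul_apply, h.eq, MulAut.mul_apply]

theorem commute_self (α : MulAut Q) (β : Subgroup.zpowers α) : Commute (β : MulAut Q) α := by
  obtain ⟨k, hk⟩ := β.2
  rw [← hk]
  exact (Commute.refl α).zpow_left k

theorem apply_eq_of_fixed {α : MulAut Q} {c : Q} (hc : α c = c) (β : Subgroup.zpowers α) :
    (β : MulAut Q) c = c := by
  have h : (β : MulAut Q) ∈ MulAction.stabilizer (MulAut Q) c :=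
    Subgroup.zpowers_le.mpr hc β.2
  exact h

/-- An element of a `q`-group killed by a number prime to `q` is trivial. -/
theorem eq_one_of_pow {V : Type*} [Group V] {q m k : ℕ} {v : V} (hm : m.Coprime q)
    (h1 : v ^ m = 1) (h2 : v ^ q ^ k = 1) : v = 1 := by
  have h := Nat.dvd_gcd (orderOf_dvd_of_pow_eq_one h1) (orderOf_dvd_of_pow_eq_one h2)
  rw [(hm.pow_right k).gcd_eq_one, Nat.dvd_one, orderOf_eq_one_iff] at h
  exact h

variable [Finite Q]

/-- Fixed points die in every abelian image. -/
theorem eq_one_of_fixed_of_hom {q : ℕ} (hQ : IsPGroup q Q) {α : MulAut Q}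
    (hcop : (orderOf α).Coprime q) (hgen : Subgroup.closure (Set.range (disp α)) = ⊤)
    {V : Type*} [CommGroup V] (f : Q →* V) {c : Q} (hc : α c = c) : f c = 1 := by
  classical
  have := Fintype.ofFinite (Subgroup.zpowers α)
  let N : Q →* V := MonoidHom.mk' (fun x => ∏ β : Subgroup.zpowers α, f ((β : MulAut Q) x))
    fun x y => by simp [Finset.prod_mul_distrib]
  have hN : N = 1 := by
    refine MonoidHom.eq_of_eqOn_dense hgen ?_
    rintro _ ⟨g, rfl⟩
    rw [MonoidHom.one_apply, disp, map_mul, map_inv, inv_mul_eq_one]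
    simp only [N, MonoidHom.mk'_apply]
    refine (Fintype.prod_equiv (Equiv.mulRight ⟨α, Subgroup.mem_zpowers α⟩) _ _ fun β => ?_).symm
    simp [MulAut.mul_apply]
  have h1 : f c ^ orderOf α = 1 := by
    have h := DFunLike.congr_fun hN c
    simp only [N, MonoidHom.mk'_apply, MonoidHom.one_apply, apply_eq_of_fixed hc,
      Finset.prod_const, Finset.card_univ] at h
    rwa [← Nat.card_zpowers, Nat.card_eq_fintype_card]
  obtain ⟨k, hk⟩ := hQ c
  exact eq_one_of_pow hcop h1 (by rw [← map_pow, hk, map_one] : f c ^ q ^ k = 1)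

/-- Fixed points lie in the derived subgroup. -/
theorem mem_commutator_of_fixed {q : ℕ} (hQ : IsPGroup q Q) {α : MulAut Q}
    (hcop : (orderOf α).Coprime q) (hgen : Subgroup.closure (Set.range (disp α)) = ⊤)
    {c : Q} (hc : α c = c) : c ∈ commutator Q := by
  rw [← Abelianization.ker_of Q, MonoidHom.mem_ker]
  exact eq_one_of_fixed_of_hom hQ hcop hgen _ hc

/-- If `α` centralises the second centre inside the derived subgroup, the class is two and the
fixed points are the derived subgroup. -/
theorem class_two {q : ℕ} [Fact q.Prime] (hQ : IsPGroup q Q) {α : MulAut Q}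
    (hgen : Subgroup.closure (Set.range (disp α)) = ⊤)
    (hU : ∀ u ∈ commutator Q, (∀ g, ⁅u, g⁆ ∈ Subgroup.center Q) → α u = u) :
    commutator Q ≤ Subgroup.center Q ∧ ∀ u ∈ commutator Q, α u = u := by
  have hcen : ∀ u ∈ commutator Q, (∀ g, ⁅u, g⁆ ∈ Subgroup.center Q) → u ∈ Subgroup.center Q := by
    intro u hu hug
    let φ : Q →* Subgroup.center Q := MonoidHom.mk' (fun g => ⟨⁅u, g⁆, hug g⟩) fun g h => by
      apply Subtype.ext
      have hz := Subgroup.mem_center_iff.mp (hug h)
      simp only [Subgroup.coe_mul]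
      calc ⁅u, g * h⁆ = ⁅u, g⁆ * (g * ⁅u, h⁆ * g⁻¹) := by
            simp only [commutatorElement_def]; group
        _ = ⁅u, g⁆ * ⁅u, h⁆ := by rw [hz g, mul_inv_cancel_right]
    have hφ : φ = 1 := by
      refine MonoidHom.eq_of_eqOn_dense hgen ?_
      rintro _ ⟨g, rfl⟩
      rw [MonoidHom.one_apply, disp, map_mul, map_inv, inv_mul_eq_one]
      apply Subtype.ext
      show ⁅u, g⁆ = ⁅u, α g⁆
      have h1 : α ⁅u, g⁆ = ⁅u, g⁆ := hU _
        (Subgroup.commutator_mem_commutator (Subgroup.mem_top u) (Subgroup.mem_top g))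
        fun h => by
          rw [commutatorElement_eq_one_iff_commute.mpr (Subgroup.mem_center_iff.mp (hug g) h).symm]
          exact one_mem _
      rw [map_commutatorElement, hU u hu hug] at h1
      exact h1.symm
    refine Subgroup.mem_center_iff.mpr fun g => ?_
    have := congrArg Subtype.val (DFunLike.congr_fun hφ g)
    exact (commutatorElement_eq_one_iff_commute.mp this).symm.eq
  have key : commutator Q ≤ Subgroup.center Q := by
    haveI := hQ.isNilpotent
    obtain ⟨n, hn⟩ := Subgroup.nilpotent_iff_lowerCentralSeries.mp (inferInstance : Group.IsNilpotent Q)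
    suffices ∀ j ≤ n, (⊤ : Subgroup Q).lowerCentralSeries (j + 1) ≤ Subgroup.center Q by
      rw [← Subgroup.top_lowerCentralSeries_one]
      exact this 0 (Nat.zero_le _)
    intro j hj
    induction hj using Nat.decreasingInduction with
    | self =>
      exact ((⊤ : Subgroup Q).lowerCentralSeries_antitone (Nat.le_succ n)).trans
        (hn ▸ bot_le)
    | of_succ k _ ih =>
      intro u hu
      refine hcen u ?_ fun g => ih (Subgroup.commutator_mem_commutator hu (Subgroup.mem_top g))
      rw [← Subgroup.top_lowerCentralSeries_one]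
      exact (⊤ : Subgroup Q).lowerCentralSeries_antitone (Nat.le_add_left 1 k) hu
  exact ⟨key, fun u hu => hU u hu fun g => by
    rw [commutatorElement_eq_one_iff_commute.mpr (Subgroup.mem_center_iff.mp (key hu) g).symm]
    exact one_mem _⟩

/-- The norm kills a central layer of the lower central series. -/
theorem eq_one_of_layer {q : ℕ} {R : Type*} [Group R] (hR : IsPGroup q R) {α : MulAut Q}
    (hodd : Odd (orderOf α)) (hcop : (orderOf α).Coprime q)
    (hgen : Subgroup.closure (Set.range (disp α)) = ⊤)
    (hcomm : ∀ g, Commute (disp α g) (α (disp α g))) (f : Q →* R) {j : ℕ}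
    (hcen : ∀ z ∈ (⊤ : Subgroup Q).lowerCentralSeries (j + 1), f z ∈ Subgroup.center R)
    {c : Q} (ih : c ∈ (⊤ : Subgroup Q).lowerCentralSeries (j + 1)) (hc : α c = c) : f c = 1 := by
  classical
  have := Fintype.ofFinite (Subgroup.zpowers α)
  set Lj := (⊤ : Subgroup Q).lowerCentralSeries j with hLj
  have hb : ∀ x : Q, ∀ u ∈ Lj, f ⁅x, u⁆ ∈ Subgroup.center R := by
    intro x u hu
    apply hcen
    rw [Subgroup.lowerCentralSeries_succ, Subgroup.commutator_comm]
    exact Subgroup.commutator_mem_commutator (Subgroup.mem_top x) hu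
  obtain ⟨b, bval⟩ : ∃ b : Q → Lj → Subgroup.center R, ∀ x u, (b x u : R) = ⁅f x, f (u : Q)⁆ :=
    ⟨fun x u => ⟨_, hb x u u.2⟩, fun x u => map_commutatorElement f _ _⟩
  letI : CommGroup (Subgroup.center R) :=
    { (inferInstance : Group (Subgroup.center R)) with
      mul_comm := fun x y => Subtype.ext (Subgroup.mem_center_iff.mp y.2 x) }
  have bl : ∀ x x' u, b (x * x') u = b x u * b x' u := by
    intro x x' u
    apply Subtype.ext
    have hz := Subgroup.mem_center_iff.mp (b x' u).2
    rw [bval x' u] at hz
    rw [Subgroup.coe_mul, bval, bval x u, bval x' u, map_mul]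
    rw [show ⁅f x * f x', f (u : Q)⁆
        = f x * ⁅f x', f (u : Q)⁆ * (f x)⁻¹ * ⁅f x, f (u : Q)⁆ by
      simp only [commutatorElement_def]; group]
    rw [hz (f x), mul_inv_cancel_right, ← hz]
  have br : ∀ x u u', b x (u * u') = b x u * b x u' := by
    intro x u u'
    apply Subtype.ext
    have hz := Subgroup.mem_center_iff.mp (b x u').2
    rw [Subgroup.coe_mul, bval, bval x u, Subgroup.coe_mul, map_mul]
    rw [show ⁅f x, f (u : Q) * f (u' : Q)⁆
        = ⁅f x, f (u : Q)⁆ * (f (u : Q) * ⁅f x, f (u' : Q)⁆ * (f (u : Q))⁻¹) by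
      simp only [commutatorElement_def]; group]
    rw [← bval x u', hz (f (u : Q)), mul_inv_cancel_right]
  -- the action on `Lj`
  have hmem : ∀ (β : MulAut Q) {u : Q}, u ∈ Lj → β u ∈ Lj := fun β u hu =>
    (SetLike.ext_iff.mp (Subgroup.Characteristic.fixed (H := Lj) inferInstance β) u).mpr hu
  let act : MulAut Q → Lj → Lj := fun β u => ⟨β (u : Q), hmem β u.2⟩
  have actmul : ∀ β γ u, act (β * γ) u = act β (act γ u) := fun β γ u => rfl
  -- the adjoint identity
  have adj : ∀ g : Q, ∀ u : Lj,
      b (disp α g) (act α (u⁻¹ * act α u)) = b (α (disp α g)) (u⁻¹ * act α u) := by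
    intro g u
    apply Subtype.ext
    rw [bval, bval]
    set v := disp α g with hv
    set w : Lj := u⁻¹ * act α u with hw
    show ⁅f v, f (α (w : Q))⁆ = ⁅f (α v), f (w : Q)⁆
    have hwv : (w : Q) = disp α (u : Q) := rfl
    set z := ⁅v⁻¹, (u : Q)⁻¹⁆ with hz
    have e : disp α (g * (u : Q)) = v * z * (w : Q) := by
      rw [hwv, hz, hv]
      simp only [disp, commutatorElement_def, map_mul]
      group
    have hzL : z ∈ (⊤ : Subgroup Q).lowerCentralSeries (j + 1) := by
      rw [hz, Subgroup.lowerCentralSeries_succ, Subgroup.commutator_comm]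
      exact Subgroup.commutator_mem_commutator (Subgroup.mem_top _) (inv_mem u.2)
    have hzL' : α z ∈ (⊤ : Subgroup Q).lowerCentralSeries (j + 1) :=
      (SetLike.ext_iff.mp (Subgroup.Characteristic.fixed
        (H := (⊤ : Subgroup Q).lowerCentralSeries (j + 1)) inferInstance α) z).mpr hzL
    have cz := Subgroup.mem_center_iff.mp (hcen z hzL)
    have cz' := Subgroup.mem_center_iff.mp (hcen _ hzL')
    have h1 := ((hcomm (g * (u : Q))).map f).eq
    rw [e] at h1
    simp only [map_mul] at h1
    set a := f v; set B := f (w : Q); set C := f (α v); set D := f (α (w : Q))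
    set Z := f z; set Z' := f (α z)
    have hac : a * C = C * a := ((hcomm g).map f).eq
    have hbd : B * D = D * B := by
      have := ((hcomm (u : Q)).map f).eq
      rwa [← hwv] at this
    have h2 : a * B * (C * D) = C * D * (a * B) := by
      have el : a * Z * B * (C * Z' * D) = Z * Z' * (a * B * (C * D)) := by
        calc a * Z * B * (C * Z' * D) = Z * a * B * (Z' * C * D) := by rw [cz a, cz' C]
          _ = Z * ((a * B) * Z') * (C * D) := by group
          _ = Z * (Z' * (a * B)) * (C * D) := by rw [cz' (a * B)]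
          _ = _ := by group
      have er : C * Z' * D * (a * Z * B) = Z * Z' * (C * D * (a * B)) := by
        calc C * Z' * D * (a * Z * B) = Z' * C * D * (Z * a * B) := by rw [cz a, cz' C]
          _ = Z' * ((C * D) * Z) * (a * B) := by group
          _ = Z' * (Z * (C * D)) * (a * B) := by rw [cz (C * D)]
          _ = (Z' * Z) * (C * D * (a * B)) := by group
          _ = _ := by rw [cz Z']
      rw [el, er] at h1
      exact mul_left_cancel h1
    have k1 : ⁅a, D⁆ ∈ Subgroup.center R := by
      have := hb v (α (w : Q)) (hmem α w.2)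
      rwa [map_commutatorElement] at this
    have k2 : ⁅B, C⁆ ∈ Subgroup.center R := by
      have := hb (α v) (w : Q) w.2
      rw [map_commutatorElement] at this
      rw [← commutatorElement_inv]
      exact inv_mem this
    have q1 := Subgroup.mem_center_iff.mp k1
    have q2 := Subgroup.mem_center_iff.mp k2
    have h3 : a * B * (C * D) = ⁅B, C⁆ * ⁅a, D⁆ * (C * D * (a * B)) := by
      calc a * B * (C * D) = a * ⁅B, C⁆ * C * B * D := by
            simp only [commutatorElement_def]; group
        _ = ⁅B, C⁆ * a * C * B * D := by rw [q2 a]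
        _ = ⁅B, C⁆ * (a * C) * (B * D) := by group
        _ = ⁅B, C⁆ * (C * a) * (D * B) := by rw [hac, hbd]
        _ = ⁅B, C⁆ * (C * ⁅a, D⁆) * D * a * B := by
            simp only [commutatorElement_def]; group
        _ = ⁅B, C⁆ * (⁅a, D⁆ * C) * D * a * B := by rw [q1 C]
        _ = _ := by group
    rw [h2, eq_comm, mul_eq_right] at h3
    rw [← commutatorElement_inv B C]
    exact eq_inv_of_mul_eq_one_right h3
  have adjn : ∀ (m : ℕ) (g : Q) (u : Lj),
      b (disp α g) (act (α ^ m) (u⁻¹ * act α u)) = b ((α ^ m) (disp α g)) (u⁻¹ * act α u) := by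
    intro m
    induction m with
    | zero => intro g u; rfl
    | succ m ihm =>
      intro g u
      have hw : act (α ^ m) (u⁻¹ * act α u) = (act (α ^ m) u)⁻¹ * act α (act (α ^ m) u) := by
        apply Subtype.ext
        show (α ^ m) ((u : Q)⁻¹ * α (u : Q)) = ((α ^ m) (u : Q))⁻¹ * α ((α ^ m) (u : Q))
        exact apply_disp α _ ((Commute.refl α).pow_left m) _
      conv_lhs => rw [pow_succ', actmul, hw, adj, ← hw, apply_disp α α (Commute.refl α), ihm,
        ← apply_disp α α (Commute.refl α), ← MulAut.mul_apply, ← pow_succ]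
  -- norms
  have hsum : ∀ x y, ∏ β : Subgroup.zpowers α, b ((β : MulAut Q) x) y = 1 := by
    intro x y
    let φ : Q →* Subgroup.center R := MonoidHom.mk'
      (fun x => ∏ β : Subgroup.zpowers α, b ((β : MulAut Q) x) y)
      fun x x' => by simp [bl, Finset.prod_mul_distrib]
    suffices φ = 1 from DFunLike.congr_fun this x
    refine MonoidHom.eq_of_eqOn_dense hgen ?_
    rintro _ ⟨g, rfl⟩
    rw [MonoidHom.one_apply, disp, map_mul, map_inv, inv_mul_eq_one]
    simp only [φ, MonoidHom.mk'_apply]
    exact (Fintype.prod_equiv (Equiv.mulRight ⟨α, Subgroup.mem_zpowers α⟩) _ _ fun β => by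
      simp [MulAut.mul_apply]).symm
  have hPhi : ∀ x u, ∏ β : Subgroup.zpowers α, b ((β : MulAut Q) x) (act β u) = 1 := by
    intro x u
    let ψ : Q →* Subgroup.center R := MonoidHom.mk'
      (fun x => ∏ β : Subgroup.zpowers α, b ((β : MulAut Q) x) (act β u))
      fun x x' => by simp [bl, Finset.prod_mul_distrib]
    suffices ψ = 1 from DFunLike.congr_fun this x
    refine MonoidHom.eq_of_eqOn_dense hgen ?_
    rintro _ ⟨g, rfl⟩
    simp only [ψ, MonoidHom.mk'_apply, MonoidHom.one_apply]
    set v := disp α g with hv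
    let Φ : Lj →* Subgroup.center R := MonoidHom.mk'
      (fun u => ∏ β : Subgroup.zpowers α, b ((β : MulAut Q) v) (act β u))
      fun u u' => by
        rw [← Finset.prod_mul_distrib]
        refine Finset.prod_congr rfl fun β _ => ?_
        rw [← br]
        exact congrArg _ (Subtype.ext (map_mul (β : MulAut Q) _ _))
    have hdelta : ∀ u : Lj, Φ (u⁻¹ * act α u) = 1 := by
      intro u
      simp only [Φ, MonoidHom.mk'_apply]
      rw [← hsum v (u⁻¹ * act α u)]
      refine Fintype.prod_bijective (fun β => β ^ 2) ?_ _ _ fun β => ?_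
      · exact (powCoprime (G := Subgroup.zpowers α) (n := 2)
          (by rw [Nat.card_zpowers]; exact hodd.coprime_two_right)).bijective
      · obtain ⟨m, hm⟩ := mem_powers_iff_mem_zpowers.mpr β.2
        beta_reduce at hm
        rw [hv, SubgroupClass.coe_pow, ← hm, apply_disp α _ ((Commute.refl α).pow_left m), adjn,
          ← apply_disp α _ ((Commute.refl α).pow_left m), sq, MulAut.mul_apply]
    have hinv : ∀ (β : Subgroup.zpowers α) (u : Lj), Φ (act β u) = Φ u := by
      intro β
      obtain ⟨m, hm⟩ := mem_powers_iff_mem_zpowers.mpr β.2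
      rw [← hm]
      clear hm
      induction m with
      | zero => intro u; simp [act]
      | succ m ihm =>
        intro u
        have h := hdelta (act (α ^ m) u)
        rw [map_mul, map_inv, inv_mul_eq_one, ihm] at h
        show Φ (act (α ^ (m + 1)) u) = _
        rw [pow_succ', actmul, ← h]
    have hp : Φ u ^ orderOf α = 1 := by
      calc Φ u ^ orderOf α = ∏ γ : Subgroup.zpowers α, Φ (act γ u) := by
            simp only [hinv, Finset.prod_const, Finset.card_univ, ← Nat.card_zpowers,
              Nat.card_eq_fintype_card]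
        _ = ∏ β : Subgroup.zpowers α, ∏ γ : Subgroup.zpowers α,
              b ((β : MulAut Q) v) (act β (act γ u)) := by
            simp only [Φ, MonoidHom.mk'_apply]; exact Finset.prod_comm
        _ = ∏ β : Subgroup.zpowers α, ∏ s : Subgroup.zpowers α,
              b ((β : MulAut Q) v) (act s u) := Finset.prod_congr rfl fun β _ =>
            Fintype.prod_equiv (Equiv.mulLeft β) _ _ fun γ => rfl
        _ = 1 := by
            rw [Finset.prod_comm]
            exact Finset.prod_eq_one fun s _ => hsum v _
    obtain ⟨k, hk⟩ := hR.to_subgroup (Subgroup.center R) (Φ u)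
    exact eq_one_of_pow hcop hp hk
  -- the norm kills the layer
  let N : (⊤ : Subgroup Q).lowerCentralSeries (j + 1) →* Subgroup.center R :=
    MonoidHom.mk' (fun l => ∏ β : Subgroup.zpowers α,
      ⟨f ((β : MulAut Q) (l : Q)), hcen _ ((SetLike.ext_iff.mp (Subgroup.Characteristic.fixed
        (H := (⊤ : Subgroup Q).lowerCentralSeries (j + 1)) inferInstance (β : MulAut Q)) _).mpr
        l.2)⟩)
      fun l l' => by
        rw [← Finset.prod_mul_distrib]
        exact Finset.prod_congr rfl fun β _ => Subtype.ext (by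
          show f ((β : MulAut Q) ((l : Q) * (l' : Q))) = _
          rw [map_mul, map_mul]; rfl)
  have hker : (⊤ : Subgroup Q).lowerCentralSeries (j + 1) ≤ N.ker.map (Subgroup.subtype _) := by
    conv_lhs => rw [Subgroup.lowerCentralSeries_succ]
    rw [Subgroup.commutator_comm, Subgroup.commutator_le]
    intro x _ u hu
    refine ⟨⟨⁅x, u⁆, ?_⟩, ?_, rfl⟩
    · rw [Subgroup.lowerCentralSeries_succ, Subgroup.commutator_comm]
      exact Subgroup.commutator_mem_commutator (Subgroup.mem_top x) hu
    · rw [SetLike.mem_coe, MonoidHom.mem_ker]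
      simp only [N, MonoidHom.mk'_apply]
      rw [← hPhi x ⟨u, hu⟩]
      exact Finset.prod_congr rfl fun β _ => Subtype.ext (by simp [bval, act, map_commutatorElement])
  obtain ⟨l, hl, hlc⟩ := hker ih
  have h1 : (⟨f c, hcen c ih⟩ : Subgroup.center R) ^ orderOf α = 1 := by
    rw [← MonoidHom.mem_ker.mp hl]
    have hlc' : (l : Q) = c := hlc
    simp only [N, MonoidHom.mk'_apply, ← Nat.card_zpowers, Nat.card_eq_fintype_card]
    rw [← Finset.card_univ, ← Finset.prod_const]
    exact Finset.prod_congr rfl fun β _ => Subtype.ext (by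
      show f c = f ((β : MulAut Q) (l : Q))
      rw [hlc', apply_eq_of_fixed hc])
  obtain ⟨k, hk⟩ := hR.to_subgroup (Subgroup.center R) ⟨f c, hcen c ih⟩
  have h2 := congrArg Subtype.val (eq_one_of_pow hcop h1 hk)
  exact h2


/-- If every displacement commutes with its image, `α` is fixed-point-free. -/
theorem eq_one_of_fixed {q : ℕ} [Fact q.Prime] (hQ : IsPGroup q Q) {α : MulAut Q}
    (hodd : Odd (orderOf α)) (hcop : (orderOf α).Coprime q)
    (hgen : Subgroup.closure (Set.range (disp α)) = ⊤)
    (hcomm : ∀ g, Commute (disp α g) (α (disp α g))) {c : Q} (hc : α c = c) : c = 1 := by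
  classical
  haveI := hQ.isNilpotent
  obtain ⟨n, hn⟩ := Subgroup.nilpotent_iff_lowerCentralSeries.mp (inferInstance : Group.IsNilpotent Q)
  suffices ∀ i, c ∈ (⊤ : Subgroup Q).lowerCentralSeries (i + 1) by
    have h := (⊤ : Subgroup Q).lowerCentralSeries_antitone (Nat.le_succ n) (this n)
    rwa [hn, Subgroup.mem_bot] at h
  intro j
  induction j with
  | zero =>
    rw [Subgroup.top_lowerCentralSeries_one]
    exact mem_commutator_of_fixed hQ hcop hgen hc
  | succ j ih =>
    have hcen : ∀ z ∈ (⊤ : Subgroup Q).lowerCentralSeries (j + 1),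
        QuotientGroup.mk' ((⊤ : Subgroup Q).lowerCentralSeries (j + 1 + 1)) z ∈ Subgroup.center _ := by
      intro z hz
      refine Subgroup.mem_center_iff.mpr fun y => ?_
      obtain ⟨x, rfl⟩ := QuotientGroup.mk'_surjective _ y
      have h1 : QuotientGroup.mk' ((⊤ : Subgroup Q).lowerCentralSeries (j + 1 + 1)) ⁅z, x⁆ = 1 :=
        (QuotientGroup.eq_one_iff _).mpr
          (Subgroup.commutator_mem_commutator hz (Subgroup.mem_top x))
      rw [map_commutatorElement] at h1
      exact (commutatorElement_eq_one_iff_commute.mp h1).symm.eq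
    exact (QuotientGroup.eq_one_iff c).mp
      (eq_one_of_layer (hQ.to_quotient _) hodd hcop hgen hcomm _ hcen ih hc)

end CfsgLib.PairwiseLine
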