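import Cfsg.Agent.Lib.PairwiseLine.Basic
import Cfsg.Agent.Lib.PairwiseLine.FixedPoints
import Cfsg.Agent.Lib.PSolvable.Core
import Cfsg.Agent.Lib.OddOrder.Solvable

/-!
# Pairwise isomorphic odd lines give the configuration
-/

set_option autoImplicit false
set_option linter.style.haveILetI false

open Pointwise
open scoped commutatorElement

namespace CfsgLib.PairwiseLine

open CfsgLib.Coprime

variable {G : Type*} [Group G] {p q : ℕ} {D : Set (Subgroup G)} {F : Type*} [Group F]

/-- The hypotheses of the statement, with `F` not abelian. -/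
structure Hyp (p : ℕ) (D : Set (Subgroup G)) (F : Type*) [Group F] : Prop where
  pp : p.Prime
  p_ne_two : p ≠ 2
  card : ∀ A ∈ D, Nat.card A = p
  conj : ∀ A ∈ D, ∀ g : G, MulAut.conj g • A ∈ D
  gen : sSup D = ⊤
  noncomm : ¬ IsMulCommutative F
  odd : Odd (Nat.card F)
  pair : ∀ A ∈ D, ∀ B ∈ D, A ≠ B → Nonempty (↥(A ⊔ B) ≃* F)

/-- A `p`-element normalising a cyclic group of order `p` centralises it. -/
theorem commute_of_pow (hp : p.Prime) {a x : G} {k n : ℕ} (ha : a ^ p = 1)
    (hx : x * a * x⁻¹ = a ^ k) (hxn : x ^ p ^ n = 1) : Commute x a := by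
  haveI := Fact.mk hp
  have h : ∀ m : ℕ, x ^ m * a * (x ^ m)⁻¹ = a ^ k ^ m := by
    intro m
    induction m with
    | zero => simp
    | succ m ih =>
      rw [pow_succ x, pow_succ' k, pow_mul, ← hx, conj_pow, ← ih]
      group
  have h1 := h (p ^ n)
  rw [hxn, one_mul, inv_one, mul_one] at h1
  have h2 : k ^ p ^ n ≡ k [MOD p] := by
    rw [← ZMod.natCast_eq_natCast_iff, Nat.cast_pow, ZMod.pow_card_pow]
  have h3 : a ^ k ^ p ^ n = a ^ k := by
    rw [← Nat.mod_add_div (k ^ p ^ n) p, ← Nat.mod_add_div k p, pow_add, pow_add, pow_mul, pow_mul,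
      ha, one_pow, one_pow, mul_one, mul_one]
    congr 1
    simpa [Nat.mod_add_div, Nat.ModEq] using h2
  rw [← h1] at h3
  rw [← h3] at hx
  exact mul_inv_eq_iff_eq_mul.mp hx

theorem exists_generator (hp : p.Prime) {A : Subgroup G} (hA : Nat.card A = p) :
    ∃ a, A = Subgroup.zpowers a ∧ a ^ p = 1 := by
  haveI := Fact.mk hp
  haveI : IsCyclic A := isCyclic_of_prime_card hA
  obtain ⟨⟨a, ha⟩, hgen⟩ := IsCyclic.exists_generator (α := A)
  refine ⟨a, le_antisymm (fun x hx => ?_) (Subgroup.zpowers_le.mpr ha), ?_⟩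
  · obtain ⟨k, hk⟩ := hgen ⟨x, hx⟩
    exact ⟨k, congrArg Subtype.val hk⟩
  · have := pow_card_eq_one' (G := A) (x := ⟨a, ha⟩)
    rw [hA] at this
    exact congrArg Subtype.val this

theorem eq_of_le_of_card (hp : p.Prime) {A B : Subgroup G} (hA : Nat.card A = p)
    (hB : Nat.card B = p) (h : A ≤ B) : A = B := by
  haveI : Finite B := Nat.finite_of_card_ne_zero (by rw [hB]; exact hp.ne_zero)
  exact Subgroup.eq_of_le_of_card_ge h (by rw [hA, hB])

namespace Hyp

variable (h : Hyp p D F)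

include h in
theorem card_pair {A B : Subgroup G} (hA : A ∈ D) (hB : B ∈ D) (hne : A ≠ B) :
    Nat.card ↥(A ⊔ B) = Nat.card F :=
  Nat.card_congr (h.pair A hA B hB hne).some.toEquiv

include h in
theorem odd_pair {A B : Subgroup G} (hA : A ∈ D) (hB : B ∈ D) : Odd (Nat.card ↥(A ⊔ B)) := by
  by_cases hne : A = B
  · rw [← hne, sup_idem, h.card A hA]
    exact h.pp.odd_of_ne_two h.p_ne_two
  · rw [h.card_pair hA hB hne]; exact h.odd

include h in
theorem eq_of_le_centralizer {A B : Subgroup G} (hA : A ∈ D) (hB : B ∈ D)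
    (hc : A ≤ Subgroup.centralizer (B : Set G)) : A = B := by
  by_contra hne
  have hab : ∀ X : Subgroup G, X ∈ D → X ≤ Subgroup.centralizer (X : Set G) := by
    intro X hX
    haveI := Fact.mk h.pp
    haveI : IsCyclic X := isCyclic_of_prime_card (h.card X hX)
    intro x hx y hy
    letI : CommGroup X := IsCyclic.commGroup
    exact congrArg Subtype.val (mul_comm (⟨y, hy⟩ : X) ⟨x, hx⟩)
  have hT : A ⊔ B ≤ Subgroup.centralizer ((A ⊔ B : Subgroup G) : Set G) :=
    sup_le (Subgroup.le_centralizer_iff.mp (sup_le (hab A hA) (Subgroup.le_centralizer_iff.mp hc)))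
      (Subgroup.le_centralizer_iff.mp (sup_le hc (hab B hB)))
  obtain ⟨e⟩ := h.pair A hA B hB hne
  refine h.noncomm ⟨⟨fun x y => ?_⟩⟩
  obtain ⟨u, rfl⟩ := e.surjective x
  obtain ⟨v, rfl⟩ := e.surjective y
  rw [← map_mul, ← map_mul]
  exact congrArg e (Subtype.ext (hT v.2 u u.2))

include h in
theorem line {A B C C' : Subgroup G} [Finite G] (hA : A ∈ D) (hB : B ∈ D) (hC : C ∈ D) (hC' : C' ∈ D)
    (hne : C ≠ C') (h1 : C ≤ A ⊔ B) (h2 : C' ≤ A ⊔ B) : C ⊔ C' = A ⊔ B := by
  by_cases hAB : A = B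
  · rw [← hAB, sup_idem] at h1 h2
    exact absurd ((eq_of_le_of_card h.pp (h.card C hC) (h.card A hA) h1).trans
      (eq_of_le_of_card h.pp (h.card C' hC') (h.card A hA) h2).symm) hne
  · exact Subgroup.eq_of_le_of_card_ge (sup_le h1 h2)
      (by rw [h.card_pair hA hB hAB, h.card_pair hC hC' hne])

include h in
theorem single [Finite G] {A B P : Subgroup G} (hA : A ∈ D) (hB : B ∈ D) (hP : IsPGroup p P)
    (hAP : A ≤ P) (hBP : B ≤ P) : A = B := by
  haveI := Fact.mk h.pp
  by_contra hne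
  obtain ⟨a, ha, hap⟩ := exists_generator h.pp (h.card A hA)
  obtain ⟨b, hb⟩ : ∃ b ∈ B, MulAut.conj b • A ≠ A := by
    by_contra hcon
    push Not at hcon
    refine hne (h.eq_of_le_centralizer hA hB ?_)
    rw [ha, Subgroup.zpowers_le, Subgroup.mem_centralizer_iff]
    intro b hb
    obtain ⟨n, hn⟩ := hP ⟨b, hBP hb⟩
    have hba : b * a * b⁻¹ ∈ A := by
      rw [← hcon b hb]
      exact Subgroup.smul_mem_pointwise_smul a _ A (ha ▸ Subgroup.mem_zpowers a)
    rw [ha, ← mem_powers_iff_mem_zpowers] at hba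
    obtain ⟨k, hk⟩ := hba
    exact (commute_of_pow h.pp hap hk.symm (congrArg Subtype.val hn)).eq
  set T := A ⊔ B with hT
  have hTP : T ≤ P := sup_le hAP hBP
  have hCT : MulAut.conj b • A ≤ T :=
    (Subgroup.pointwise_smul_le_pointwise_smul_iff.mpr le_sup_left).trans
      (conj_smul_eq_of_mem (Subgroup.mem_sup_right hb.1)).le
  have htop := h.line hA hB hA (h.conj A hA b) (Ne.symm hb.2) le_sup_left hCT
  haveI : Group.IsNilpotent T := (hP.to_le hTP).isNilpotent
  have hAne : A.subgroupOf T ≠ ⊤ := by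
    intro e
    rw [Subgroup.subgroupOf_eq_top] at e
    exact hne (eq_of_le_of_card h.pp (h.card B hB) (h.card A hA) (le_sup_right.trans e)).symm
  obtain ⟨M, hM, hAM⟩ := (eq_top_or_exists_le_coatom (A.subgroupOf T)).resolve_left hAne
  haveI := Subgroup.NormalizerCondition.normal_of_coatom M
    Group.normalizerCondition_of_isNilpotent hM
  refine hM.1 (top_le_iff.mp ?_)
  have h2 : T ≤ M.map T.subtype := by
    refine (hT.trans htop.symm).le.trans ?_
    refine sup_le (fun x hx => ?_) (fun x hx => ?_)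
    · exact ⟨⟨x, Subgroup.mem_sup_left hx⟩, hAM hx, rfl⟩
    · obtain ⟨y, hy, rfl⟩ := hx
      exact ⟨_, Subgroup.Normal.conj_mem inferInstance (⟨y, Subgroup.mem_sup_left hy⟩ : T)
        (hAM hy) ⟨b, Subgroup.mem_sup_right hb.1⟩, rfl⟩
  intro x _
  obtain ⟨y, hy, hyx⟩ := h2 x.2
  rwa [← Subtype.ext hyx]

variable [Finite G]

include h in
/-- A group of odd order generated by members is a `p'`-group times a member. -/
theorem exists_kernel {K A : Subgroup G} (hodd : Odd (Nat.card K)) (hK : Closed D K) (hA : A ∈ D)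
    (hAK : A ≤ K) : ∃ M : Subgroup G, M ≤ K ∧ K ≤ Subgroup.normalizer (M : Set G) ∧
      (Nat.card A).Coprime (Nat.card M) ∧ M ⊔ A = K ∧ ⁅M, A⁆ = M ∧
      ∀ B ∈ D, B ≤ K → ∃ x ∈ M, B = MulAut.conj x • A := by
  classical
  haveI := Fact.mk h.pp
  haveI hsol : Group.IsSolvable K := CfsgLib.OddOrder.odd_order_solvable hodd
  set M' := Cfsg.pPrimeCore p K with hM'
  haveI hM'n : M'.Normal := Transfer.pPrimeCore_normal p K
  set f := QuotientGroup.mk' M'
  have hf : Function.Surjective f := QuotientGroup.mk'_surjective _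
  -- a member is central in a Sylow subgroup containing it
  have hconj : ∀ B ∈ D, B ≤ K → ∀ P : Sylow p K, B.subgroupOf K ≤ P → ∀ x ∈ (P : Subgroup K),
      ∀ y ∈ B.subgroupOf K, Commute x y := by
    intro B hB hBK P hBP x hx y hy
    obtain ⟨b, hb, hbp⟩ := exists_generator h.pp (h.card B hB)
    have hPB : MulAut.conj (x : G) • B = B := by
      refine (h.single hB (h.conj B hB (x : G)) (P.2.map K.subtype) ?_ ?_).symm
      · intro z hz
        exact ⟨⟨z, hBK hz⟩, hBP hz, rfl⟩
      · intro z hz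
        obtain ⟨w, hw, rfl⟩ := hz
        exact ⟨x * ⟨w, hBK hw⟩ * x⁻¹, mul_mem (mul_mem hx (hBP hw)) (inv_mem hx), rfl⟩
    have hxb : (x : G) * b * (x : G)⁻¹ ∈ B := by
      have := Subgroup.smul_mem_pointwise_smul b (MulAut.conj (x : G)) B (hb ▸ Subgroup.mem_zpowers b)
      rwa [hPB] at this
    rw [hb, ← mem_powers_iff_mem_zpowers] at hxb
    obtain ⟨k, hk⟩ := hxb
    obtain ⟨n, hn⟩ := P.2 ⟨x, hx⟩
    have hc := commute_of_pow h.pp hbp hk.symm
      (congrArg (fun z : (P : Subgroup K) => ((z : K) : G)) hn)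
    rw [Subgroup.mem_subgroupOf, hb] at hy
    obtain ⟨j, hj⟩ := hy
    apply Subtype.ext
    show (x : G) * (y : G) = (y : G) * (x : G)
    rw [← hj]
    exact (hc.zpow_right j).eq
  -- every member lies in the preimage of `O_p`
  haveI := Fitting.pCore_normal (G := K ⧸ M') p
  have hOp : ∀ B ∈ D, B ≤ K → (B.subgroupOf K).map f ≤ Cfsg.pCore p (K ⧸ M') := by
    intro B hB hBK
    have hBpg : IsPGroup p (B.subgroupOf K) :=
      ((IsPGroup.of_card (n := 1) (by rw [h.card B hB, pow_one]))).comap_of_injective K.subtype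
        K.subtype_injective
    obtain ⟨P, hBP⟩ := hBpg.exists_le_sylow
    refine le_trans ?_ (PSolvable.centralizer_pCore_le (PSolvable.isPSolvable_of_isSolvable
      inferInstance) (PSolvable.pPrimeCore_eq_bot_of_ker hf (QuotientGroup.ker_mk' M')))
    let P' : Sylow p (K ⧸ M') := P.mapSurjective hf
    have hOP : Cfsg.pCore p (K ⧸ M') ≤ (P : Subgroup K).map f := by
      have h1 := P'.3 ((Fitting.pCore_isPGroup (G := K ⧸ M') p).to_sup_of_normal_left P'.2)
        le_sup_right
      exact le_sup_left.trans h1.le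
    rintro _ ⟨y, hy, rfl⟩ z hz
    obtain ⟨x, hx, rfl⟩ := hOP hz
    rw [← map_mul, ← map_mul, (hconj B hB hBK P hBP x hx y hy).eq]
  -- hence the quotient is a `p`-group
  have hgen : (⊤ : Subgroup K) ≤ sSup {B' | ∃ B ∈ D, B ≤ K ∧ B' = B.subgroupOf K} := by
    intro x _
    have h1 : K ≤ (sSup {B' | ∃ B ∈ D, B ≤ K ∧ B' = B.subgroupOf K}).map K.subtype := by
      refine hK.trans (sSup_le fun B hB => ?_)
      intro z hz
      have hle : B.subgroupOf K ≤ sSup {B' | ∃ B ∈ D, B ≤ K ∧ B' = B.subgroupOf K} :=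
        le_sSup ⟨B, hB.1, hB.2, rfl⟩
      exact ⟨⟨z, hB.2 hz⟩, hle hz, rfl⟩
    obtain ⟨y, hy, hyx⟩ := h1 x.2
    rwa [← Subtype.ext hyx]
  have htop : Cfsg.pCore p (K ⧸ M') = ⊤ := by
    rw [eq_top_iff, ← Subgroup.map_top_of_surjective f hf]
    refine (Subgroup.map_mono hgen).trans ?_
    rw [Subgroup.map_le_iff_le_comap, sSup_le_iff]
    rintro _ ⟨B, hB, hBK, rfl⟩
    exact Subgroup.map_le_iff_le_comap.mp (hOp B hB hBK)
  have hApg : IsPGroup p (A.subgroupOf K) :=
    ((IsPGroup.of_card (n := 1) (by rw [h.card A hA, pow_one]))).comap_of_injective K.subtype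
      K.subtype_injective
  obtain ⟨P, hAP⟩ := hApg.exists_le_sylow
  have hPtop : (P : Subgroup K).map f = ⊤ := by
    have hpg : IsPGroup p (⊤ : Subgroup (K ⧸ M')) := htop ▸ Fitting.pCore_isPGroup (G := K ⧸ M') p
    exact ((P.mapSurjective hf).3 hpg le_top).symm
  -- members are conjugate under the core
  have hmem : ∀ B ∈ D, B ≤ K → ∃ x ∈ M'.map K.subtype, B = MulAut.conj x • A := by
    intro B hB hBK
    have hBpg : IsPGroup p (B.subgroupOf K) :=
      ((IsPGroup.of_card (n := 1) (by rw [h.card B hB, pow_one]))).comap_of_injective K.subtype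
        K.subtype_injective
    obtain ⟨P₁, hBP⟩ := hBpg.exists_le_sylow
    obtain ⟨k, hk⟩ := MulAction.exists_smul_eq K P₁ P
    have hkB : MulAut.conj (k : G) • B = A := by
      refine (h.single hA (h.conj B hB (k : G)) (P.2.map K.subtype) ?_ ?_).symm
      · intro z hz
        exact ⟨⟨z, hAK hz⟩, hAP hz, rfl⟩
      · rintro _ ⟨w, hw, rfl⟩
        refine ⟨k * ⟨w, hBK hw⟩ * k⁻¹, ?_, rfl⟩
        rw [← hk, Sylow.coe_subgroup_smul]
        exact conj_mem_conj_smul (hBP hw)
    have hx : f k⁻¹ ∈ (P : Subgroup K).map f := hPtop ▸ Subgroup.mem_top _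
    obtain ⟨x, hx, hxk⟩ := hx
    have hm : k⁻¹ * x⁻¹ ∈ M' := by
      rw [← QuotientGroup.ker_mk' M', MonoidHom.mem_ker, map_mul, map_inv _ x, ← hxk, mul_inv_cancel]
    refine ⟨_, Subgroup.mem_map_of_mem K.subtype hm, ?_⟩
    have hxA : MulAut.conj (x : G) • A = A := by
      refine conj_smul_eq_self_of_mem_normalizer (Subgroup.centralizer_le_normalizer _ fun a ha => ?_)
      exact (congrArg Subtype.val (hconj A hA hAK P hAP x hx ⟨a, hAK ha⟩ ha).eq).symm
    rw [Subgroup.coe_subtype, Subgroup.coe_mul, map_mul, mul_smul, Subgroup.coe_inv,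
      Subgroup.coe_inv, map_inv _ (x : G), show (MulAut.conj (x : G))⁻¹ • A = A from
      inv_smul_eq_iff.mpr hxA.symm, map_inv, eq_inv_smul_iff, hkB]
  set M := M'.map K.subtype with hM
  have hMK : M ≤ K := Subgroup.map_subtype_le _
  have hKM : K ≤ Subgroup.normalizer (M : Set G) := by
    intro g hg
    refine Coprime.mem_normalizer_iff_conj_smul.mpr ?_
    rw [hM, show (g : G) = K.subtype ⟨g, hg⟩ from rfl, ← Coprime.map_conj_smul,
      Coprime.conj_smul_eq_self_of_mem_normalizer]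
    rw [Subgroup.normalizer_eq_top]
    exact Subgroup.mem_top _
  have hcop : (Nat.card A).Coprime (Nat.card M) := by
    rw [h.card A hA, hM, Subgroup.card_map_of_injective K.subtype_injective]
    exact (Transfer.pPrimeCore_coprime p).symm
  have hAM : A ≤ Subgroup.normalizer (M : Set G) := hAK.trans hKM
  have hcover : ∀ N : Subgroup G, (∀ B ∈ D, B ≤ K → B ≤ N ⊔ A) → K ≤ N ⊔ A := fun N hN =>
    hK.trans (sSup_le fun B hB => hN B hB.1 hB.2)
  have hsup : M ⊔ A = K := by
    refine le_antisymm (sup_le hMK hAK) (hcover M fun B hB hBK => ?_)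
    obtain ⟨x, hx, rfl⟩ := hmem B hB hBK
    exact (Subgroup.pointwise_smul_le_pointwise_smul_iff.mpr le_sup_right).trans
      (conj_smul_eq_of_mem (Subgroup.mem_sup_left hx)).le
  refine ⟨M, hMK, hKM, hcop, hsup, ?_, hmem⟩
  have hle : ⁅M, A⁆ ≤ M := Coprime.commutator_le_left_of_le_normalizer hAM
  refine Subgroup.eq_of_le_of_card_ge hle ?_
  have h1 : K ≤ ⁅M, A⁆ ⊔ A := by
    refine hcover _ fun B hB hBK => ?_
    obtain ⟨x, hx, rfl⟩ := hmem B hB hBK
    rintro _ ⟨a, ha, rfl⟩
    show x * a * x⁻¹ ∈ _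
    have := mul_mem (Subgroup.mem_sup_left (T := A) (Subgroup.commutator_mem_commutator hx ha))
      (Subgroup.mem_sup_right (S := ⁅M, A⁆) ha)
    rwa [commutatorElement_def, inv_mul_cancel_right] at this
  have h2 : Nat.card ↥(M ⊔ A) ≤ Nat.card ↥(⁅M, A⁆ ⊔ A) :=
    Subgroup.card_le_of_le (hsup ▸ h1)
  rw [Coprime.card_sup_of_coprime hAM hcop.symm, Coprime.card_sup_of_coprime
    (Coprime.le_normalizer_commutator hAM Subgroup.le_normalizer)
    (hcop.symm.coprime_dvd_left (Subgroup.card_dvd_of_le hle))] at h2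
  exact Nat.le_of_mul_le_mul_right h2 Nat.card_pos

include h in
/-- An invariant `r`-subgroup that is not centralised determines the order of `F`. -/
theorem card_F_of_moved {A R : Subgroup G} {r : ℕ} [hr : Fact r.Prime] (hrp : r ≠ p) (hA : A ∈ D)
    (hR : IsPGroup r R) (hAR : A ≤ Subgroup.normalizer (R : Set G))
    (hnc : ¬ R ≤ Subgroup.centralizer (A : Set G)) : ∃ k, Nat.card F = r ^ (k + 1) * p := by
  haveI := Fact.mk h.pp
  obtain ⟨m, hm⟩ := IsPGroup.iff_card.mp hR
  have hcop : (Nat.card R).Coprime (Nat.card A) := by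
    rw [hm, h.card A hA]
    exact Nat.Coprime.pow_left m ((Nat.coprime_primes hr.out h.pp).mpr hrp)
  obtain ⟨x, hx, hne⟩ : ∃ x ∈ R, MulAut.conj x • A ≠ A := by
    by_contra hcon
    push Not at hcon
    exact hnc fun x hx => Coprime.commute_of_mem_normalizer hAR
      (Coprime.inf_eq_bot_of_coprime_card hcop) hx
      (Coprime.mem_normalizer_iff_conj_smul.mpr (hcon x hx))
  have hle : A ⊔ MulAut.conj x • A ≤ R ⊔ A :=
    sup_le le_sup_right ((Subgroup.pointwise_smul_le_pointwise_smul_iff.mpr le_sup_right).trans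
      (conj_smul_eq_of_mem (Subgroup.mem_sup_left hx)).le)
  have hd := Subgroup.card_dvd_of_le hle
  rw [h.card_pair hA (h.conj A hA x) (Ne.symm hne), Coprime.card_sup_of_coprime hAR hcop, hm,
    h.card A hA] at hd
  have hpd : p ∣ Nat.card F := by
    rw [← h.card_pair hA (h.conj A hA x) (Ne.symm hne), ← h.card A hA]
    exact Subgroup.card_dvd_of_le le_sup_left
  obtain ⟨e, he⟩ := hpd
  rw [he, mul_comm p e] at hd
  obtain ⟨j, -, hj⟩ := (Nat.dvd_prime_pow hr.out).mp (Nat.dvd_of_mul_dvd_mul_right h.pp.pos hd)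
  rcases Nat.eq_zero_or_pos j with rfl | hjpos
  · exfalso
    have hc : Nat.card ↥(A ⊔ MulAut.conj x • A) = p := by
      rw [h.card_pair hA (h.conj A hA x) (Ne.symm hne), he, hj, pow_zero, mul_one]
    exact hne ((eq_of_le_of_card h.pp (h.card _ (h.conj A hA x)) hc le_sup_right).trans
      (eq_of_le_of_card h.pp (h.card A hA) hc le_sup_left).symm)
  · refine ⟨j - 1, ?_⟩
    rw [Nat.sub_add_cancel hjpos, ← hj, he, mul_comm]

include h in
/-- The kernels are `q`-groups for a single prime `q`. -/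
theorem exists_prime {A B : Subgroup G} (hA : A ∈ D) (hB : B ∈ D) (hne : A ≠ B) :
    ∃ q : ℕ, q.Prime ∧ q ≠ p ∧ q ≠ 2 ∧ ∀ r : ℕ, r.Prime → r ≠ p → r ∣ Nat.card F → r = q := by
  haveI := Fact.mk h.pp
  obtain ⟨M, -, hKM, hcop, hsup, hcomm, -⟩ :=
    h.exists_kernel (h.odd_pair hA hB) (closed_sup hA hB) hA le_sup_left
  have hAM : A ≤ Subgroup.normalizer (M : Set G) := le_sup_left.trans hKM
  haveI : IsCyclic A := isCyclic_of_prime_card (h.card A hA)
  have hAsol : Group.IsSolvable A := by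
    letI : CommGroup A := IsCyclic.commGroup
    infer_instance
  have hM1 : M ≠ ⊥ := by
    intro e
    rw [e, bot_sup_eq] at hsup
    exact hne (eq_of_le_of_card h.pp (h.card B hB) (h.card A hA) (hsup ▸ le_sup_right)).symm
  obtain ⟨r, hr, hrM, hmoved⟩ : ∃ r : ℕ, ∃ _ : Fact r.Prime, r ≠ p ∧ ∃ R : Subgroup G,
      IsPGroup r R ∧ A ≤ Subgroup.normalizer (R : Set G) ∧
        ¬ R ≤ Subgroup.centralizer (A : Set G) := by
    by_contra hcon
    push Not at hcon
    have hc : M ≤ Subgroup.centralizer (A : Set G) := by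
      set C := M ⊓ Subgroup.centralizer (A : Set G)
      suffices Nat.card M ∣ Nat.card C from
        (Subgroup.eq_of_le_of_card_ge inf_le_left
          (Nat.le_of_dvd Nat.card_pos this)).ge.trans inf_le_right
      refine (Nat.factorization_le_iff_dvd Nat.card_pos.ne' Nat.card_pos.ne').mp fun r => ?_
      by_cases hr : r.Prime
      swap
      · simp [Nat.factorization_eq_zero_of_not_prime _ hr]
      haveI := Fact.mk hr
      obtain ⟨R, hR⟩ := Coprime.exists_invariant_sylow hAM hcop (Or.inl hAsol) r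
      by_cases hrp : r = p
      · have : ¬ r ∣ Nat.card M := by
          rw [hrp, ← h.pp.coprime_iff_not_dvd]
          exact h.card A hA ▸ hcop
        simp [Nat.factorization_eq_zero_of_not_dvd this]
      have hRC : (R : Subgroup M).map M.subtype ≤ C :=
        le_inf (Subgroup.map_subtype_le _) (hcon r ⟨hr⟩ hrp _ (R.2.map _) hR)
      have := Subgroup.card_dvd_of_le hRC
      rw [Subgroup.card_map_of_injective M.subtype_injective, R.card_eq_multiplicity] at this
      exact (hr.pow_dvd_iff_le_factorization Nat.card_pos.ne').mp this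
    refine hM1 (hcomm.symm.trans ?_)
    rw [Subgroup.commutator_eq_bot_iff_le_centralizer]
    exact hc
  obtain ⟨R, hR, hAR, hnc⟩ := hmoved
  obtain ⟨k, hk⟩ := h.card_F_of_moved hrM hA hR hAR hnc
  refine ⟨r, hr.out, hrM, ?_, fun s hs hsp hsd => ?_⟩
  · rintro rfl
    have h1 := h.odd
    rw [hk, Nat.odd_mul, Nat.odd_pow_iff (Nat.succ_ne_zero k)] at h1
    exact absurd h1.1 (by decide)
  · rw [hk] at hsd
    rcases (Nat.Prime.dvd_mul hs).mp hsd with h1 | h1
    · exact (Nat.prime_dvd_prime_iff_eq hs hr.out).mp (hs.dvd_of_dvd_pow h1)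
    · exact absurd ((Nat.prime_dvd_prime_iff_eq hs h.pp).mp h1) hsp

include h in
/-- The shape of a group of odd order generated by members, without the fixed-point property. -/
theorem weakShape (hq : q.Prime) (hqp : q ≠ p)
    (hFq : ∀ r : ℕ, r.Prime → r ≠ p → r ∣ Nat.card F → r = q) {K A : Subgroup G}
    (hodd : Odd (Nat.card K)) (hK : Closed D K) (hA : A ∈ D) (hAK : A ≤ K) :
    IsPGroup q (qPart q K) ∧ qPart q K ⊔ A = K ∧
      (∀ B ∈ D, B ≤ K → ∃ x ∈ qPart q K, B = MulAut.conj x • A) ∧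
      ⁅qPart q K, A⁆ = qPart q K := by
  haveI := Fact.mk h.pp
  haveI := Fact.mk hq
  obtain ⟨M, hMK, hKM, hcop, hsup, hcomm, hmem⟩ := h.exists_kernel hodd hK hA hAK
  have hAM : A ≤ Subgroup.normalizer (M : Set G) := hAK.trans hKM
  haveI : IsCyclic A := isCyclic_of_prime_card (h.card A hA)
  have hAsol : Group.IsSolvable A := by
    letI : CommGroup A := IsCyclic.commGroup
    infer_instance
  suffices hMq : IsPGroup q M by
    rw [qPart_eq h.pp hq hqp hMq (h.card A hA).dvd hAM hsup]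
    exact ⟨hMq, hsup, hmem, hcomm⟩
  obtain ⟨R₀, hR₀⟩ := Coprime.exists_invariant_sylow hAM hcop (Or.inl hAsol) q
  set R := (R₀ : Subgroup M).map M.subtype with hR
  set C := M ⊓ Subgroup.centralizer (A : Set G) with hC
  have hRM : R ≤ M := Subgroup.map_subtype_le _
  have hRidx : R.relIndex M = (R₀ : Subgroup M).index := by
    rw [Subgroup.relIndex, hR, Subgroup.subgroupOf,
      Subgroup.comap_map_eq_self_of_injective M.subtype_injective]
  have hcp : (C.relIndex M).Coprime (R.relIndex M) := by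
    refine Nat.coprime_of_dvd fun r hr hrC hrR => ?_
    haveI := Fact.mk hr
    have hrq : r ≠ q := by
      rintro rfl
      exact R₀.not_dvd_index (hRidx ▸ hrR)
    have hrp : r ≠ p := by
      rintro rfl
      exact (h.pp.coprime_iff_not_dvd.mp (h.card A hA ▸ hcop))
        (hrC.trans (Subgroup.relIndex_dvd_card C M))
    obtain ⟨S, hS⟩ := Coprime.exists_invariant_sylow hAM hcop (Or.inl hAsol) r
    have hSC : (S : Subgroup M).map M.subtype ≤ C := by
      refine le_inf (Subgroup.map_subtype_le _) ?_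
      by_contra hnc
      obtain ⟨k, hk⟩ := h.card_F_of_moved hrp hA (S.2.map _) hS hnc
      exact hrq (hFq r hr hrp (hk ▸ dvd_mul_of_dvd_left (dvd_pow_self r (Nat.succ_ne_zero k)) _))
    refine S.not_dvd_index (hrC.trans ?_)
    have := Subgroup.relIndex_dvd_of_le_left M hSC
    rwa [Subgroup.relIndex, Subgroup.relIndex, Subgroup.subgroupOf, Subgroup.subgroupOf,
      Subgroup.comap_map_eq_self_of_injective M.subtype_injective] at this
  have hle : C.relIndex R = C.relIndex M := by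
    refine le_antisymm (Subgroup.relIndex_le_of_le_right hRM (Subgroup.index_ne_zero_of_finite))
      (Nat.le_of_dvd (Nat.pos_of_ne_zero (Subgroup.index_ne_zero_of_finite)) ?_)
    refine hcp.dvd_of_dvd_mul_right ?_
    have h1 := Subgroup.relIndex_mul_relIndex (C ⊓ R) R M inf_le_right hRM
    rw [Subgroup.inf_relIndex_right] at h1
    rw [h1]
    exact Subgroup.relIndex_dvd_of_le_left M inf_le_left
  have hbij : Function.Bijective (Subgroup.quotientSubgroupOfEmbeddingOfLE C hRM) :=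
    (Nat.bijective_iff_injective_and_card _).mpr
      ⟨(Subgroup.quotientSubgroupOfEmbeddingOfLE C hRM).injective, hle⟩
  have hcov : ∀ x ∈ M, ∃ y ∈ R, MulAut.conj x • A = MulAut.conj y • A := by
    intro x hx
    obtain ⟨y', hy⟩ := hbij.2 (QuotientGroup.mk ⟨x, hx⟩)
    obtain ⟨y, rfl⟩ := QuotientGroup.mk_surjective y'
    refine ⟨y, y.2, ?_⟩
    rw [Subgroup.quotientSubgroupOfEmbeddingOfLE_apply_mk, QuotientGroup.eq,
      Subgroup.mem_subgroupOf] at hy
    have h1 : MulAut.conj ((y : G)⁻¹ * x) • A = A :=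
      Coprime.conj_smul_eq_self_of_mem_normalizer
        (Subgroup.centralizer_le_normalizer _ (Subgroup.mem_inf.mp hy).2)
    rwa [map_mul, map_inv, mul_smul, inv_smul_eq_iff] at h1
  have hKR : M ⊔ A ≤ R ⊔ A := by
    rw [hsup]
    refine hK.trans (sSup_le fun B hB => ?_)
    obtain ⟨x, hx, rfl⟩ := hmem B hB.1 hB.2
    obtain ⟨y, hy, hxy⟩ := hcov x hx
    rw [hxy]
    exact (Subgroup.pointwise_smul_le_pointwise_smul_iff.mpr le_sup_right).trans
      (conj_smul_eq_of_mem (Subgroup.mem_sup_left hy)).le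
  have h2 := Subgroup.card_le_of_le hKR
  rw [Coprime.card_sup_of_coprime hAM hcop.symm, Coprime.card_sup_of_coprime hR₀
    (hcop.symm.coprime_dvd_left (Subgroup.card_dvd_of_le hRM))] at h2
  rw [← Subgroup.eq_of_le_of_card_ge hRM (Nat.le_of_mul_le_mul_right h2 Nat.card_pos)]
  exact R₀.2.map _

end Hyp

end CfsgLib.PairwiseLine
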