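import Cfsg.Agent.Lib.PairwiseLine.Derive

/-!
# Fixed points in the kernels, and the configuration
-/

set_option autoImplicit false
set_option linter.style.haveILetI false

open Pointwise
open scoped commutatorElement

namespace CfsgLib.PairwiseLine

open CfsgLib.Coprime

variable {G : Type*} [Group G] [Finite G] {p q : ℕ} {D : Set (Subgroup G)} {F : Type*} [Group F]

namespace Hyp

variable (h : Hyp p D F)

include h in
theorem commute_derived_iff {A B : Subgroup G} (hA : A ∈ D) (hB : B ∈ D) (hne : A ≠ B) :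
    (∀ x ∈ ⁅A ⊔ B, A ⊔ B⁆, ∀ y ∈ ⁅A ⊔ B, A ⊔ B⁆, Commute x y) ↔
      ∀ x ∈ commutator F, ∀ y ∈ commutator F, Commute x y := by
  obtain ⟨e⟩ := h.pair A hA B hB hne
  have h1 : (commutator ↥(A ⊔ B)).map e.toMonoidHom = commutator F := by
    rw [commutator_def, commutator_def, Subgroup.map_commutator,
      Subgroup.map_top_of_surjective _ e.surjective]
  have h2 : (commutator ↥(A ⊔ B)).map (A ⊔ B).subtype = ⁅A ⊔ B, A ⊔ B⁆ :=
    Subgroup.map_subtype_commutator _
  rw [← h1, ← h2]
  constructor
  · rintro hc _ ⟨u, hu, rfl⟩ _ ⟨v, hv, rfl⟩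
    have := hc _ (Subgroup.mem_map_of_mem _ hu) _ (Subgroup.mem_map_of_mem _ hv)
    exact (Subtype.ext this.eq : u * v = v * u) |> fun e' => Commute.map e' _
  · rintro hc _ ⟨u, hu, rfl⟩ _ ⟨v, hv, rfl⟩
    have := hc _ (Subgroup.mem_map_of_mem _ hu) _ (Subgroup.mem_map_of_mem _ hv)
    exact (show Commute u v from e.injective (by
      simp only [map_mul]; exact this.eq)).map _

include h in
/-- The shape of a group of odd order generated by members, with the two alternatives for the
fixed points. -/
theorem fixed_points (hq : q.Prime) (hqp : q ≠ p)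
    (hFq : ∀ r : ℕ, r.Prime → r ≠ p → r ∣ Nat.card F → r = q) {K A : Subgroup G}
    (hodd : Odd (Nat.card K)) (hK : Closed D K) (hA : A ∈ D) (hAK : A ≤ K) :
    ((∀ x ∈ commutator F, ∀ y ∈ commutator F, Commute x y) →
      qPart q K ⊓ Subgroup.centralizer (A : Set G) = ⊥) ∧
    (¬ (∀ x ∈ commutator F, ∀ y ∈ commutator F, Commute x y) →
      ⁅qPart q K, qPart q K⁆ ≤ Subgroup.centralizer (K : Set G) ∧
      qPart q K ⊓ Subgroup.centralizer (A : Set G) ≤ Subgroup.centralizer (K : Set G)) := by
  haveI := Fact.mk h.pp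
  haveI := Fact.mk hq
  obtain ⟨hQp, hsup, -, hcomm⟩ := h.weakShape hq hqp hFq hodd hK hA hAK
  set Q := qPart q K with hQdef
  obtain ⟨a, ha, hap⟩ := exists_generator h.pp (h.card A hA)
  have haA : a ∈ A := ha ▸ Subgroup.mem_zpowers a
  have hAQ : A ≤ Subgroup.normalizer (Q : Set G) := hAK.trans (le_normalizer_qPart K)
  set α : MulAut Q := Q.normalizerMonoidHom ⟨a, hAQ haA⟩ with hα
  have hαval : ∀ x : Q, ((α x : Q) : G) = a * (x : G) * a⁻¹ := fun _ => rfl
  have hαp : α ^ p = 1 := by
    rw [hα, ← map_pow]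
    convert map_one Q.normalizerMonoidHom using 2
    exact Subtype.ext hap
  have hord : orderOf α ∣ p := orderOf_dvd_of_pow_eq_one hαp
  have hαcop : (orderOf α).Coprime q :=
    Nat.Coprime.coprime_dvd_left hord ((Nat.coprime_primes h.pp hq).mpr (Ne.symm hqp))
  have hαodd : Odd (orderOf α) := (h.pp.odd_of_ne_two h.p_ne_two).of_dvd_nat hord
  have hcopQ : (Nat.card Q).Coprime (Nat.card A) := by
    obtain ⟨m, hm⟩ := IsPGroup.iff_card.mp hQp
    rw [hm, h.card A hA]
    exact Nat.Coprime.pow_left m ((Nat.coprime_primes hq h.pp).mpr hqp)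
  -- displacements generate
  set N := (Subgroup.closure (Set.range (disp α))).map Q.subtype with hN
  have hNQ : N ≤ Q := Subgroup.map_subtype_le _
  have hdispN : ∀ g : Q, ((disp α g : Q) : G) ∈ N := fun g =>
    Subgroup.mem_map_of_mem _ (Subgroup.subset_closure (Set.mem_range_self g))
  have hgen : Subgroup.closure (Set.range (disp α)) = ⊤ := by
    have hQN : Q ≤ N := by
      calc Q = ⁅Q, A⁆ := hcomm.symm
        _ ≤ N := Subgroup.commutator_le.mpr fun g hg x hx => by
          rw [ha, ← mem_powers_iff_mem_zpowers] at hx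
          obtain ⟨m, rfl⟩ := hx
          show ⁅g, a ^ m⁆ ∈ N
          induction m with
          | zero => simp [one_mem]
          | succ m ih =>
            have hd := hdispN ((α ^ m) ⟨g⁻¹, inv_mem hg⟩)
            have hpw : ∀ (k : ℕ) (y : Q), (((α ^ k) y : Q) : G) = a ^ k * (y : G) * (a ^ k)⁻¹ := by
              intro k y
              induction k with
              | zero => simp
              | succ k ihk =>
                rw [pow_succ' α, MulAut.mul_apply, hαval, ihk, pow_succ']
                group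
            rw [show ⁅g, a ^ (m + 1)⁆ = ⁅g, a ^ m⁆ * ((disp α ((α ^ m) ⟨g⁻¹, inv_mem hg⟩) : Q) : G) by
              rw [disp, Subgroup.coe_mul, Subgroup.coe_inv, hαval, hpw, commutatorElement_def,
                commutatorElement_def, pow_succ']
              group]
            exact mul_mem ih hd
    rw [eq_top_iff]
    intro g _
    obtain ⟨y, hy, hyg⟩ := hQN g.2
    rwa [← Subtype.ext hyg]
  -- a displacement and the line it spans
  have hdisp : ∀ g : Q, disp α g = 1 ∨ (MulAut.conj ((g : G)⁻¹) • A ≠ A ∧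
      ((disp α g : Q) : G) ∈ ⁅A ⊔ MulAut.conj ((g : G)⁻¹) • A, A ⊔ MulAut.conj ((g : G)⁻¹) • A⁆ ∧
      ((α (disp α g) : Q) : G) ∈
        ⁅A ⊔ MulAut.conj ((g : G)⁻¹) • A, A ⊔ MulAut.conj ((g : G)⁻¹) • A⁆) := by
    intro g
    by_cases hfix : MulAut.conj ((g : G)⁻¹) • A = A
    · left
      have h1 : (g : G)⁻¹ ∈ Subgroup.centralizer (A : Set G) :=
        Coprime.commute_of_mem_normalizer hAQ (Coprime.inf_eq_bot_of_coprime_card hcopQ)
          (inv_mem g.2) (Coprime.mem_normalizer_iff_conj_smul.mpr hfix)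
      apply Subtype.ext
      rw [disp, Subgroup.coe_mul, Subgroup.coe_inv, hαval, Subgroup.coe_one,
        show (g : G)⁻¹ * (a * (g : G) * a⁻¹) = ((g : G)⁻¹ * a) * (g : G) * a⁻¹ by group,
        ← h1 a haA]
      group
    · right
      set B := MulAut.conj ((g : G)⁻¹) • A with hBdef
      have hB : B ∈ D := h.conj A hA _
      obtain ⟨hTp, hTsup, -, hTcomm⟩ := h.weakShape hq hqp hFq (h.odd_pair hA hB)
        (closed_sup hA hB) hA le_sup_left
      have hQT : qPart q (A ⊔ B) ≤ ⁅A ⊔ B, A ⊔ B⁆ :=
        hTcomm.symm.le.trans (Subgroup.commutator_mono (qPart_le _) le_sup_left)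
      have hx : ((disp α g : Q) : G) ∈ A ⊔ B := by
        rw [disp, Subgroup.coe_mul, Subgroup.coe_inv, hαval,
          show (g : G)⁻¹ * (a * (g : G) * a⁻¹) = ((g : G)⁻¹ * a * ((g : G)⁻¹)⁻¹) * a⁻¹ by group]
        exact mul_mem (Subgroup.mem_sup_right (Subgroup.smul_mem_pointwise_smul a
          (MulAut.conj ((g : G)⁻¹)) A haA)) (Subgroup.mem_sup_left (inv_mem haA))
      obtain ⟨n, hn⟩ := hQp (disp α g)
      have hxT : ((disp α g : Q) : G) ∈ qPart q (A ⊔ B) :=
        mem_qPart hx (by rw [← Subgroup.coe_pow, hn, Subgroup.coe_one])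
      refine ⟨hfix, hQT hxT, hQT ?_⟩
      rw [hαval]
      exact (Subgroup.mem_normalizer_iff.mp
        (le_normalizer_qPart (A ⊔ B) (Subgroup.mem_sup_left haA)) _).mp hxT
  have hfixK : ∀ {x : Q}, α x = x ↔ (x : G) ∈ Subgroup.centralizer (A : Set G) := by
    intro x
    rw [ha, Subgroup.mem_centralizer_iff]
    constructor
    · intro hx y hy
      obtain ⟨j, rfl⟩ := hy
      have hax : Commute a (x : G) := by
        have := congrArg Subtype.val hx
        rw [hαval] at this
        exact mul_inv_eq_iff_eq_mul.mp this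
      exact (hax.zpow_left j).eq
    · intro hx
      apply Subtype.ext
      rw [hαval, hx a (Subgroup.mem_zpowers a), mul_inv_cancel_right]
  refine ⟨fun hcase => ?_, fun hcase => ?_⟩
  · rw [eq_bot_iff]
    intro x hx
    obtain ⟨hxQ, hxA⟩ := Subgroup.mem_inf.mp hx
    have h1 := eq_one_of_fixed hQp hαodd hαcop hgen (fun g => by
      rcases hdisp g with h1 | ⟨hne, h1, h2⟩
      · rw [h1]; exact Commute.one_left _
      · exact Subtype.ext
          ((h.commute_derived_iff hA (h.conj A hA _) (Ne.symm hne)).mpr hcase _ h1 _ h2).eq)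
      (c := ⟨x, hxQ⟩) (hfixK.mpr hxA)
    exact Subgroup.mem_bot.mpr (congrArg Subtype.val h1)
  · have hU : ∀ u ∈ commutator Q, (∀ g, ⁅u, g⁆ ∈ Subgroup.center Q) → α u = u := by
      intro u hu hug
      by_contra hmoved
      -- the abelian invariant subgroup
      set U : Subgroup Q := commutator Q ⊓
        (Subgroup.center (Q ⧸ Subgroup.center Q)).comap (QuotientGroup.mk' (Subgroup.center Q))
        with hUdef
      have hUmem : ∀ {v : Q}, v ∈ U ↔ v ∈ commutator Q ∧ ∀ g, ⁅v, g⁆ ∈ Subgroup.center Q := by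
        intro v
        rw [hUdef, Subgroup.mem_inf, Subgroup.mem_comap, Subgroup.mem_center_iff]
        refine and_congr_right fun _ => ⟨fun hc g => ?_, fun hc y => ?_⟩
        · rw [← QuotientGroup.ker_mk' (Subgroup.center Q), MonoidHom.mem_ker, map_commutatorElement,
            commutatorElement_eq_one_iff_commute]
          exact (hc _).symm
        · obtain ⟨g, rfl⟩ := QuotientGroup.mk'_surjective (Subgroup.center Q) y
          have := hc g
          rw [← QuotientGroup.ker_mk' (Subgroup.center Q), MonoidHom.mem_ker, map_commutatorElement,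
            commutatorElement_eq_one_iff_commute] at this
          exact this.symm.eq
      have hUab : ∀ v ∈ U, ∀ w ∈ U, Commute v w := by
        intro v hv w hw
        obtain ⟨-, hvg⟩ := hUmem.mp hv
        let φ : Q →* Subgroup.center Q := MonoidHom.mk' (fun g => ⟨⁅v, g⁆, hvg g⟩) fun x y => by
          apply Subtype.ext
          have hz := Subgroup.mem_center_iff.mp (hvg y)
          simp only [Subgroup.coe_mul]
          calc ⁅v, x * y⁆ = ⁅v, x⁆ * (x * ⁅v, y⁆ * x⁻¹) := by
                simp only [commutatorElement_def]; group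
            _ = ⁅v, x⁆ * ⁅v, y⁆ := by rw [hz x, mul_inv_cancel_right]
        have hker : commutator Q ≤ φ.ker := by
          rw [commutator_def, Subgroup.commutator_le]
          intro x _ y _
          rw [MonoidHom.mem_ker, map_commutatorElement, commutatorElement_eq_one_iff_commute]
          exact Subtype.ext (Subgroup.mem_center_iff.mp (φ y).2 _)
        have h1 := congrArg Subtype.val (MonoidHom.mem_ker.mp (hker (hUmem.mp hw).1))
        exact commutatorElement_eq_one_iff_commute.mp h1
      set W := U.map Q.subtype with hW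
      have hAW : A ≤ Subgroup.normalizer (W : Set G) := by
        have hle : ∀ v ∈ U, α v ∈ U := fun v hv => by
          obtain ⟨h1, h2⟩ := hUmem.mp hv
          refine hUmem.mpr ⟨?_, fun g => ?_⟩
          · exact (SetLike.ext_iff.mp (Subgroup.Characteristic.fixed (H := commutator Q)
              inferInstance α) v).mpr h1
          · obtain ⟨g, rfl⟩ := α.surjective g
            rw [← map_commutatorElement]
            exact (SetLike.ext_iff.mp (Subgroup.Characteristic.fixed (H := Subgroup.center Q)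
              inferInstance α) _).mpr (h2 g)
        rw [ha, Subgroup.zpowers_le]
        refine Coprime.mem_normalizer_iff_conj_smul.mpr (Subgroup.eq_of_le_of_card_ge ?_
          (Coprime.card_conj_smul a W).ge)
        rintro _ ⟨_, ⟨v, hv, rfl⟩, rfl⟩
        exact ⟨α v, hle v hv, hαval v⟩
      set B := MulAut.conj ((u : G)⁻¹) • A with hBdef
      have hne : B ≠ A := by
        intro e
        have h1 : (u : G)⁻¹ ∈ Subgroup.centralizer (A : Set G) :=
          Coprime.commute_of_mem_normalizer hAQ (Coprime.inf_eq_bot_of_coprime_card hcopQ)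
            (inv_mem u.2) (Coprime.mem_normalizer_iff_conj_smul.mpr e)
        exact hmoved (hfixK.mpr (inv_inv (u : G) ▸ inv_mem h1))
      have hle : A ⊔ B ≤ W ⊔ A := sup_le le_sup_right
        ((Subgroup.pointwise_smul_le_pointwise_smul_iff.mpr le_sup_right).trans
          (conj_smul_eq_of_mem (Subgroup.mem_sup_left
            (inv_mem (Subgroup.mem_map_of_mem Q.subtype (hUmem.mpr ⟨hu, hug⟩))))).le)
      refine hcase ((h.commute_derived_iff hA (h.conj A hA _) (Ne.symm hne)).mp fun x hx y hy => ?_)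
      have hAab : ∀ x ∈ A, ∀ y ∈ A, Commute x y := by
        rw [ha]
        rintro _ ⟨i, rfl⟩ _ ⟨j, rfl⟩
        exact (Commute.refl a).zpow_zpow i j
      have hder := (Subgroup.commutator_mono hle hle).trans (commutator_sup_le hAab hAW)
      obtain ⟨v, hv, rfl⟩ := hder hx
      obtain ⟨w, hw, rfl⟩ := hder hy
      exact (hUab v hv w hw).map _
    obtain ⟨hcen, hfix⟩ := class_two hQp hgen hU
    have hder : ∀ x ∈ commutator Q, (x : G) ∈ Subgroup.centralizer (K : Set G) := by
      intro x hx
      have hle : K ≤ Subgroup.centralizer {(x : G)} := by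
        rw [← hsup]
        refine sup_le (fun y hy => ?_) (fun y hy => ?_)
        · exact Subgroup.mem_centralizer_singleton_iff.mpr
            (congrArg Subtype.val (Subgroup.mem_center_iff.mp (hcen hx) ⟨y, hy⟩))
        · exact Subgroup.mem_centralizer_singleton_iff.mpr (hfixK.mp (hfix x hx) y hy)
      exact fun y hy => Subgroup.mem_centralizer_singleton_iff.mp (hle hy)
    refine ⟨?_, fun x hx => ?_⟩
    · rw [show ⁅Q, Q⁆ = (commutator Q).map Q.subtype from (Subgroup.map_subtype_commutator Q).symm]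
      rintro _ ⟨x, hx, rfl⟩
      exact hder x hx
    · obtain ⟨hxQ, hxA⟩ := Subgroup.mem_inf.mp hx
      exact hder ⟨x, hxQ⟩ (mem_commutator_of_fixed hQp hαcop hgen (hfixK.mpr hxA))

include h in
/-- The hypotheses give the configuration. -/
theorem gen_of_hyp {A B : Subgroup G} (hA : A ∈ D) (hB : B ∈ D) (hne : A ≠ B) :
    ∃ q, GEN p q D := by
  obtain ⟨q, hq, hqp, hq2, hFq⟩ := h.exists_prime hA hB hne
  refine ⟨q, h.pp, hq, h.p_ne_two, hq2, hqp, h.card, h.conj, h.gen,
    fun A hA B hB P hP => h.single hA hB hP, fun A hA B hB => h.odd_pair hA hB,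
    fun A hA B hB C hC C' hC' => h.line hA hB hC hC', fun K hodd hK A hA hAK => ?_, ?_⟩
  · obtain ⟨h1, h2, h3, h4⟩ := h.weakShape hq hqp hFq hodd hK hA hAK
    refine ⟨h1, h2, h3, h4, ?_⟩
    by_cases hcase : ∀ x ∈ commutator F, ∀ y ∈ commutator F, Commute x y
    · rw [(h.fixed_points hq hqp hFq hodd hK hA hAK).1 hcase]
      exact bot_le
    · exact ((h.fixed_points hq hqp hFq hodd hK hA hAK).2 hcase).2
  · by_cases hcase : ∀ x ∈ commutator F, ∀ y ∈ commutator F, Commute x y
    · exact Or.inl fun K hodd hK A hA hAK => (h.fixed_points hq hqp hFq hodd hK hA hAK).1 hcase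
    · exact Or.inr fun K hodd hK A hA hAK =>
        ((h.fixed_points hq hqp hFq hodd hK hA hAK).2 hcase).1

end Hyp

end CfsgLib.PairwiseLine
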