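import Cfsg.Agent.Lib.PairwiseLine.Structure

/-!
# The configuration passes to subgroups and to quotients
-/

set_option autoImplicit false
set_option linter.style.haveILetI false

open Pointwise
open scoped commutatorElement

namespace CfsgLib.PairwiseLine

open CfsgLib.Coprime

variable {G : Type*} [Group G] [Finite G] {p q : ℕ} {D : Set (Subgroup G)}

theorem map_qPart_of_injective {H : Type*} [Group H] {f : H →* G} (hf : Function.Injective f)
    (L : Subgroup H) : (qPart q L).map f = qPart q (L.map f) := by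
  rw [qPart, MonoidHom.map_closure, qPart]
  congr 1
  ext x
  constructor
  · rintro ⟨y, ⟨hy, n, hn⟩, rfl⟩
    exact ⟨Subgroup.mem_map_of_mem f hy, n, by rw [← map_pow, hn, map_one]⟩
  · rintro ⟨⟨y, hy, rfl⟩, n, hn⟩
    rw [← map_pow, map_eq_one_iff f hf] at hn
    exact ⟨y, ⟨hy, n, hn⟩, rfl⟩

theorem map_centralizer_inf_of_injective {H : Type*} [Group H] {f : H →* G}
    (hf : Function.Injective f) (X L : Subgroup H) :
    (X ⊓ Subgroup.centralizer (L : Set H)).map f
      = X.map f ⊓ Subgroup.centralizer ((L.map f : Subgroup G) : Set G) := by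
  ext x
  constructor
  · rintro ⟨y, hy, rfl⟩
    refine Subgroup.mem_inf.mpr ⟨Subgroup.mem_map_of_mem f (Subgroup.mem_inf.mp hy).1, ?_⟩
    rintro _ ⟨l, hl, rfl⟩
    rw [← map_mul, ← map_mul, (Subgroup.mem_inf.mp hy).2 l hl]
  · intro hx
    obtain ⟨⟨y, hy, rfl⟩, hc⟩ := Subgroup.mem_inf.mp hx
    refine ⟨y, Subgroup.mem_inf.mpr ⟨hy, fun l hl => hf ?_⟩, rfl⟩
    rw [map_mul, map_mul]
    exact hc (f l) (Subgroup.mem_map_of_mem f hl)

namespace GEN

variable (h : GEN p q D)

include h in
/-- A subgroup generated by members inherits the configuration. -/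
theorem restrict {K : Subgroup G} (hK : Closed D K) :
    GEN p q {B : Subgroup K | B.map K.subtype ∈ D} := by
  set D' := {B : Subgroup K | B.map K.subtype ∈ D}
  have hi := K.subtype_injective
  have hcard : ∀ X : Subgroup K, Nat.card ↥(X.map K.subtype) = Nat.card X := fun X =>
    Subgroup.card_map_of_injective hi
  have hcl : ∀ L, Closed D' L → Closed D (L.map K.subtype) := by
    intro L hL
    refine (Subgroup.map_mono hL).trans ?_
    rw [Subgroup.map_le_iff_le_comap]
    refine sSup_le fun B hB => ?_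
    rw [← Subgroup.map_le_iff_le_comap]
    exact le_sSup (α := Subgroup G) ⟨hB.1, Subgroup.map_mono hB.2⟩
  have hodd : ∀ L : Subgroup K, Odd (Nat.card L) → Odd (Nat.card (L.map K.subtype)) :=
    fun L hL => (hcard L).symm ▸ hL
  refine ⟨h.pp, h.qq, h.p_ne_two, h.q_ne_two, h.ne, fun A hA => ?_, fun A hA g => ?_, ?_,
    fun A hA B hB P hP hAP hBP => ?_, fun A hA B hB => ?_,
    fun A hA B hB C hC C' hC' hne h1 h2 => ?_, fun L hL hLc A hA hAL => ?_, ?_⟩
  · rw [← hcard]; exact h.card _ hA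
  · show (MulAut.conj g • A).map K.subtype ∈ D
    rw [Coprime.map_conj_smul]
    exact h.conj _ hA _
  · rw [eq_top_iff]
    intro x _
    have hle : K ≤ (sSup D').map K.subtype := by
      refine hK.trans (sSup_le fun B hB => ?_)
      rw [← Subgroup.map_subgroupOf_eq_of_le hB.2]
      refine Subgroup.map_mono (le_sSup ?_)
      show (B.subgroupOf K).map K.subtype ∈ D
      rw [Subgroup.map_subgroupOf_eq_of_le hB.2]
      exact hB.1
    obtain ⟨y, hy, hyx⟩ := hle x.2
    rwa [← Subtype.ext hyx]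
  · exact Subgroup.map_injective hi (h.single _ hA _ hB _ (hP.map K.subtype) (Subgroup.map_mono hAP)
      (Subgroup.map_mono hBP))
  · rw [← hcard, Subgroup.map_sup]
    exact h.odd_pair _ hA _ hB
  · apply Subgroup.map_injective hi
    rw [Subgroup.map_sup, Subgroup.map_sup]
    exact h.line _ hA _ hB _ hC _ hC' (fun e => hne (Subgroup.map_injective hi e))
      ((Subgroup.map_mono h1).trans (Subgroup.map_sup A B K.subtype).le)
      ((Subgroup.map_mono h2).trans (Subgroup.map_sup A B K.subtype).le)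
  · have hS := h.shape _ (hodd L hL) (hcl L hLc) _ hA (Subgroup.map_mono hAL)
    refine ⟨?_, ?_, fun B hB hBL => ?_, ?_, ?_⟩
    · have h1 := hS.isPGroup
      rw [← map_qPart_of_injective hi] at h1
      exact h1.of_equiv (Subgroup.equivMapOfInjective (qPart q L) K.subtype hi).symm
    · apply Subgroup.map_injective hi
      rw [Subgroup.map_sup, map_qPart_of_injective hi]
      exact hS.sup_eq
    · obtain ⟨x, hx, hxB⟩ := hS.conj_mem _ hB (Subgroup.map_mono hBL)
      rw [← map_qPart_of_injective hi] at hx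
      obtain ⟨y, hy, rfl⟩ := hx
      refine ⟨y, hy, Subgroup.map_injective hi ?_⟩
      rw [hxB, Coprime.map_conj_smul]
    · apply Subgroup.map_injective hi
      rw [Subgroup.map_commutator, map_qPart_of_injective hi]
      exact hS.comm_eq
    · intro x hx l hl
      have h1 : (x : G) ∈ Subgroup.centralizer ((L.map K.subtype : Subgroup G) : Set G) := by
        refine hS.fixed ?_
        rw [← map_qPart_of_injective hi, ← map_centralizer_inf_of_injective hi]
        exact Subgroup.mem_map_of_mem K.subtype hx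
      exact Subtype.ext (h1 _ (Subgroup.mem_map_of_mem K.subtype hl))
  · rcases h.dich with hd | hd
    · refine Or.inl fun L hL hLc A hA hAL => ?_
      rw [← Subgroup.map_eq_bot_iff_of_injective _ hi, map_centralizer_inf_of_injective hi,
        map_qPart_of_injective hi]
      exact hd _ (hodd L hL) (hcl L hLc) _ hA (Subgroup.map_mono hAL)
    · refine Or.inr fun L hL hLc A hA hAL x hx l hl => ?_
      have h1 := hd _ (hodd L hL) (hcl L hLc) _ hA (Subgroup.map_mono hAL)
      rw [← map_qPart_of_injective hi, ← Subgroup.map_commutator] at h1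
      exact Subtype.ext (h1 (Subgroup.mem_map_of_mem K.subtype hx) _
        (Subgroup.mem_map_of_mem K.subtype hl))

include h in
/-- A quotient by a kernel containing no member inherits the configuration, provided a group
generated by members has odd order when its image has. -/
theorem quotient {GQ : Type*} [Group GQ] [Finite GQ] {f : G →* GQ} (hf : Function.Surjective f)
    (hker : ∀ A ∈ D, ¬ A ≤ f.ker)
    (hlift : ∀ K, Closed D K → Odd (Nat.card (K.map f)) → Odd (Nat.card K)) :
    GEN p q ((fun A => A.map f) '' D) := by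
  haveI := Fact.mk h.pp
  haveI := Fact.mk h.qq
  -- the preimage generated by members
  have hpre : ∀ L : Subgroup GQ, Closed ((fun A => A.map f) '' D) L → Odd (Nat.card L) →
      (hull D fun B => B.map f ≤ L).map f = L ∧ Odd (Nat.card ↥(hull D fun B => B.map f ≤ L)) := by
    intro L hL hodd
    have he : (hull D fun B => B.map f ≤ L).map f = L := by
      refine le_antisymm ?_ (hL.trans (sSup_le ?_))
      · rw [Subgroup.map_le_iff_le_comap]
        exact hull_le fun B _ hB => Subgroup.map_le_iff_le_comap.mp hB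
      · rintro _ ⟨⟨B, hB, rfl⟩, hBL⟩
        exact Subgroup.map_mono (le_hull hB hBL)
    exact ⟨he, hlift _ (closed_hull _ _) (he.symm ▸ hodd)⟩
  have hcardA : ∀ A ∈ D, Nat.card (A.map f) = p := by
    intro A hA
    rcases (Nat.dvd_prime h.pp).mp (h.card A hA ▸ Subgroup.card_map_dvd A f) with h1 | h1
    · exact absurd ((Subgroup.map_eq_bot_iff A).mp (Subgroup.card_eq_one.mp h1)) (hker A hA)
    · exact h1
  have hqm : ∀ (K A : Subgroup G), A ∈ D → A ≤ K → Shape q D A K →
      qPart q (K.map f) = (qPart q K).map f := by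
    intro K A hA hAK hS
    refine qPart_eq h.pp h.qq h.ne (hS.isPGroup.map f) (hcardA A hA).dvd ?_
      (by rw [← Subgroup.map_sup, hS.sup_eq])
    rintro _ ⟨a, ha, rfl⟩
    exact Subgroup.le_normalizer_map f (Subgroup.mem_map_of_mem f (h.normalizer_qPart hAK ha))
  have hfix : ∀ (K A : Subgroup G), A ∈ D → A ≤ K → Shape q D A K →
      qPart q (K.map f) ⊓ Subgroup.centralizer ((A.map f : Subgroup GQ) : Set GQ)
        = (qPart q K ⊓ Subgroup.centralizer (A : Set G)).map f := by
    intro K A hA hAK hS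
    haveI := hS.isPGroup.isNilpotent
    rw [Coprime.map_inf_centralizer (h.normalizer_qPart hAK) (h.coprime_qPart hA hS).symm
      (Or.inr inferInstance), hqm K A hA hAK hS]
  have hshape : ∀ L : Subgroup GQ, Odd (Nat.card L) → Closed ((fun A => A.map f) '' D) L →
      ∀ A ∈ D, A.map f ≤ L → Shape q ((fun A => A.map f) '' D) (A.map f) L := by
    intro L hL hLc A hA hAL
    obtain ⟨he, hKodd⟩ := hpre L hLc hL
    set K := hull D fun B => B.map f ≤ L
    have hAK : A ≤ K := le_hull hA hAL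
    have hS := h.shape K hKodd (closed_hull _ _) A hA hAK
    have hq := hqm K A hA hAK hS
    rw [he] at hq
    refine ⟨hq ▸ hS.isPGroup.map f, ?_, ?_, ?_, ?_⟩
    · rw [hq, ← Subgroup.map_sup, hS.sup_eq, he]
    · rintro _ ⟨B, hB, rfl⟩ hBL
      obtain ⟨x, hx, hxB⟩ := hS.conj_mem B hB (le_hull hB hBL)
      exact ⟨f x, hq ▸ Subgroup.mem_map_of_mem f hx, by
        show B.map f = _
        rw [hxB, Coprime.map_conj_smul]⟩
    · rw [hq, ← Subgroup.map_commutator, hS.comm_eq]
    · rw [← he, hfix K A hA hAK hS]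
      rintro _ ⟨x, hx, rfl⟩ _ ⟨y, hy, rfl⟩
      rw [← map_mul, ← map_mul, hS.fixed hx y hy]
  refine ⟨h.pp, h.qq, h.p_ne_two, h.q_ne_two, h.ne, ?_, ?_, ?_, ?_, ?_, ?_, ?_, ?_⟩
  · rintro _ ⟨A, hA, rfl⟩
    exact hcardA A hA
  · rintro _ ⟨A, hA, rfl⟩ g
    obtain ⟨g, rfl⟩ := hf g
    exact ⟨_, h.conj A hA g, Coprime.map_conj_smul f g A⟩
  · rw [eq_top_iff, ← Subgroup.map_top_of_surjective f hf, ← h.gen, Subgroup.map_le_iff_le_comap]
    exact sSup_le fun A hA => Subgroup.map_le_iff_le_comap.mp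
      (le_sSup (α := Subgroup GQ) ⟨A, hA, rfl⟩)
  · rintro _ ⟨A, hA, rfl⟩ _ ⟨B, hB, rfl⟩ P hP hAP hBP
    have hS := h.shape _ (h.odd_pair A hA B hB) (closed_sup hA hB) A hA le_sup_left
    obtain ⟨x, hx, hxB⟩ := hS.conj_mem B hB le_sup_right
    have hxP : f x ∈ P := (sup_le hAP hBP : A.map f ⊔ B.map f ≤ P)
      (Subgroup.map_sup A B f ▸ Subgroup.mem_map_of_mem f (qPart_le _ hx))
    obtain ⟨i, hi⟩ := hS.isPGroup ⟨x, hx⟩
    obtain ⟨j, hj⟩ := hP ⟨f x, hxP⟩
    have h1 : f x ^ q ^ i = 1 := by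
      rw [← map_pow, show x ^ q ^ i = 1 from congrArg Subtype.val hi, map_one]
    have h2 : f x ^ p ^ j = 1 := congrArg Subtype.val hj
    have hfx : f x = 1 := by
      have hg := Nat.dvd_gcd (orderOf_dvd_of_pow_eq_one h1) (orderOf_dvd_of_pow_eq_one h2)
      rw [(((Nat.coprime_primes h.qq h.pp).mpr h.ne).pow i j).gcd_eq_one, Nat.dvd_one,
        orderOf_eq_one_iff] at hg
      exact hg
    show A.map f = B.map f
    rw [hxB, Coprime.map_conj_smul, hfx, map_one, one_smul]
  · rintro _ ⟨A, hA, rfl⟩ _ ⟨B, hB, rfl⟩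
    rw [← Subgroup.map_sup]
    exact (h.odd_pair A hA B hB).of_dvd_nat (Subgroup.card_map_dvd _ f)
  · rintro _ ⟨A, hA, rfl⟩ _ ⟨B, hB, rfl⟩ _ ⟨C, hC, rfl⟩ _ ⟨C', hC', rfl⟩ hne h1 h2
    rw [← Subgroup.map_sup A B f] at h1 h2 ⊢
    set T := A ⊔ B
    have hTodd := h.odd_pair A hA B hB
    have hST := h.shape T hTodd (closed_sup hA hB) A hA le_sup_left
    have hLc : Closed ((fun A => A.map f) '' D) (T.map f) := by
      refine (Subgroup.map_mono (closed_sup hA hB)).trans ?_
      rw [Subgroup.map_le_iff_le_comap]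
      exact sSup_le fun E hE => Subgroup.map_le_iff_le_comap.mp
        (le_sSup (α := Subgroup GQ) ⟨⟨E, hE.1, rfl⟩, Subgroup.map_mono hE.2⟩)
    have hrep : ∀ E ∈ D, E.map f ≤ T.map f → ∃ E₀ ∈ D, E₀ ≤ T ∧ E.map f = E₀.map f := by
      intro E hE hEL
      obtain ⟨he, hKodd⟩ := hpre _ hLc (hTodd.of_dvd_nat (Subgroup.card_map_dvd T f))
      set K := hull D fun B => B.map f ≤ T.map f
      have hAK : A ≤ K := le_hull hA (Subgroup.map_mono le_sup_left)
      have hSK := h.shape K hKodd (closed_hull _ _) A hA hAK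
      obtain ⟨x, hx, hxE⟩ := hSK.conj_mem E hE (le_hull hE hEL)
      have hfx : f x ∈ (qPart q T).map f := by
        rw [← hqm T A hA le_sup_left hST, ← he, hqm K A hA hAK hSK]
        exact Subgroup.mem_map_of_mem f hx
      obtain ⟨y, hy, hyx⟩ := hfx
      refine ⟨MulAut.conj y • A, h.conj A hA y,
        (h.conj_le_conj hA le_sup_left (Coprime.conj_smul_eq_of_mem (qPart_le T hy))).2, ?_⟩
      rw [hxE, Coprime.map_conj_smul, Coprime.map_conj_smul, hyx]
    obtain ⟨C₀, hC₀, hC₀T, hC₀e⟩ := hrep C hC h1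
    obtain ⟨C₁, hC₁, hC₁T, hC₁e⟩ := hrep C' hC' h2
    show C.map f ⊔ C'.map f = _
    rw [hC₀e, hC₁e, ← Subgroup.map_sup,
      h.line A hA B hB C₀ hC₀ C₁ hC₁ (fun e => hne (show C.map f = C'.map f by rw [hC₀e, hC₁e, e]))
        hC₀T hC₁T]
  · rintro L hL hLc _ ⟨A, hA, rfl⟩ hAL
    exact hshape L hL hLc A hA hAL
  · rcases h.dich with hd | hd
    · refine Or.inl ?_
      rintro L hL hLc _ ⟨A, hA, rfl⟩ hAL
      obtain ⟨he, hKodd⟩ := hpre L hLc hL
      have hAK : A ≤ hull D fun B => B.map f ≤ L := le_hull hA hAL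
      show qPart q L ⊓ Subgroup.centralizer ((A.map f : Subgroup GQ) : Set GQ) = ⊥
      rw [← he, hfix _ A hA hAK (h.shape _ hKodd (closed_hull _ _) A hA hAK),
        hd _ hKodd (closed_hull _ _) A hA hAK, Subgroup.map_bot]
    · refine Or.inr ?_
      rintro L hL hLc _ ⟨A, hA, rfl⟩ hAL
      obtain ⟨he, hKodd⟩ := hpre L hLc hL
      have hAK : A ≤ hull D fun B => B.map f ≤ L := le_hull hA hAL
      rw [← he, hqm _ A hA hAK (h.shape _ hKodd (closed_hull _ _) A hA hAK), ← Subgroup.map_commutator]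
      rintro _ ⟨x, hx, rfl⟩ _ ⟨y, hy, rfl⟩
      rw [← map_mul, ← map_mul, hd _ hKodd (closed_hull _ _) A hA hAK hx y hy]

end GEN

end CfsgLib.PairwiseLine
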