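import Cfsg.Agent.Lib.PairwiseLine.Bridge
import Cfsg.Agent.Lib.ZStar.Main

/-!
# Involutions in a minimal configuration of even order
-/

set_option autoImplicit false
set_option linter.style.haveILetI false

open Pointwise
open scoped commutatorElement

namespace CfsgLib.PairwiseLine

open CfsgLib.Coprime

theorem exists_fixed_of_odd {α : Type*} [Finite α] {f : α → α} (hf : ∀ x, f (f x) = x)
    (hodd : Odd (Nat.card α)) : Odd (Nat.card {x // f x = x}) := by
  classical
  haveI := Fintype.ofFinite α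
  have h := Equiv.Perm.card_fixedPoints_modEq (α := α) (f := (f : Function.End α)) (p := 2) (n := 1)
    ((congrArg (fun n => HPow.hPow (α := Function.End α) f n) (pow_one 2)).trans
      ((sq (M := Function.End α) f).trans (funext hf)))
  rw [← Nat.card_eq_fintype_card, ← Nat.card_eq_fintype_card] at h
  rw [Nat.odd_iff] at hodd ⊢
  exact (Eq.symm h).trans hodd

variable {G : Type*} [Group G] [Finite G] {p q : ℕ} {D : Set (Subgroup G)}

theorem conj_conj_eq_of_sq {t : G} (ht : t * t = 1) (B : Subgroup G) :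
    MulAut.conj t • (MulAut.conj t • B) = B := by
  rw [smul_smul, ← map_mul, ht, map_one, one_smul]

theorem conj_smul_sup_self {t : G} (ht : t * t = 1) (B : Subgroup G) :
    MulAut.conj t • (B ⊔ MulAut.conj t • B) = B ⊔ MulAut.conj t • B := by
  rw [Subgroup.smul_sup, conj_conj_eq_of_sq ht, sup_comm]

theorem conj_smul_comm {t s : G} (hts : Commute t s) (B : Subgroup G) :
    MulAut.conj t • (MulAut.conj s • B) = MulAut.conj s • (MulAut.conj t • B) := by
  rw [smul_smul, smul_smul, ← map_mul, ← map_mul, hts.eq]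

theorem mul_self_eq_one {t : G} (ht : orderOf t = 2) : t * t = 1 := by
  rw [← pow_two, ← ht, pow_orderOf_eq_one]

namespace Minimal

variable (m : Minimal p q D)

include m in
/-- An involution fixes oddly many members of an invariant line. -/
theorem odd_fixed_members {t : G} (ht : t * t = 1) {A B : Subgroup G} (hA : A ∈ D) (hB : B ∈ D)
    (hinv : MulAut.conj t • (A ⊔ B) = A ⊔ B) :
    Odd (Nat.card {X : {X : Subgroup G // X ∈ D ∧ X ≤ A ⊔ B} //
      MulAut.conj t • (X : Subgroup G) = X}) := by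
  let f : {X : Subgroup G // X ∈ D ∧ X ≤ A ⊔ B} → {X : Subgroup G // X ∈ D ∧ X ≤ A ⊔ B} :=
    fun X => ⟨MulAut.conj t • (X : Subgroup G), m.gen.conj_le_conj X.2.1 X.2.2 hinv⟩
  have h := exists_fixed_of_odd (f := f) (fun X => Subtype.ext (conj_conj_eq_of_sq ht _))
    (m.gen.odd_members (m.gen.odd_pair A hA B hB) (closed_sup hA hB) hA le_sup_left)
  rw [← Nat.card_congr (Equiv.subtypeEquivRight (p := fun X => f X = X) fun X => Subtype.ext_iff)]
  exact h

include m in
/-- An invariant line contains a member normalised by the involution. -/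
theorem exists_mid {t : G} (ht : t * t = 1) {B : Subgroup G} (hB : B ∈ D) :
    ∃ A ∈ D, A ≤ B ⊔ MulAut.conj t • B ∧ MulAut.conj t • A = A := by
  have h := m.odd_fixed_members ht hB (m.gen.conj B hB t) (conj_smul_sup_self ht B)
  obtain ⟨⟨X, hX⟩, hX'⟩ := (Nat.card_pos_iff.mp h.pos).1.some
  exact ⟨X, hX.1, hX.2, hX'⟩

include m in
/-- The line through a member and its image under an involution, and any fixed member on it. -/
theorem sup_mid {t : G} {B A : Subgroup G} (hB : B ∈ D) (hA : A ∈ D)
    (hne : MulAut.conj t • B ≠ B) (hAB : A ≤ B ⊔ MulAut.conj t • B)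
    (hfix : MulAut.conj t • A = A) : A ⊔ B = B ⊔ MulAut.conj t • B :=
  m.gen.line B hB _ (m.gen.conj B hB t) A hA B hB (fun e => hne (e ▸ hfix)) hAB le_sup_left

include m in
/-- No involution is isolated. -/
theorem exists_commuting_conj (hcen : ∀ z ∈ Subgroup.center G, orderOf z ≠ 2) {t : G}
    (ht : orderOf t = 2) : ∃ g : G, Commute t (g * t * g⁻¹) ∧ g * t * g⁻¹ ≠ t := by
  by_contra hcon
  push Not at hcon
  have hiso : Cfsg.IsIsolatedInvolution t := ⟨ht, hcon⟩
  exact hcen t (Subgroup.mem_center_iff.mpr fun x =>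
    (ZStar.commute_of_commutatorsInCore m.core (ZStar.commutatorsInCore_of_isolated hiso) x).eq.symm)
    ht

include m in
/-- Some involution centralises a member. -/
theorem exists_centralising_involution (hcen : ∀ z ∈ Subgroup.center G, orderOf z ≠ 2)
    (heven : ¬ Odd (Nat.card G)) :
    ∃ t : G, orderOf t = 2 ∧ ∃ A ∈ D, t ∈ Subgroup.centralizer (A : Set G) := by
  classical
  obtain ⟨t, ht⟩ := exists_prime_orderOf_dvd_card' (G := G) 2
    (even_iff_two_dvd.mp (Nat.not_odd_iff_even.mp heven))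
  obtain ⟨g, hc, hne⟩ := m.exists_commuting_conj hcen ht
  set u := g * t * g⁻¹ with hu
  have hu2 : orderOf u = 2 := by
    rw [hu]
    exact ((MulAut.conj g).orderOf_eq t).trans ht
  have ht' := mul_self_eq_one ht
  have hu' := mul_self_eq_one hu2
  obtain ⟨B₀, hB₀⟩ : ∃ B, B ∈ D := by
    by_contra hcon
    push Not at hcon
    have h0 : (⊤ : Subgroup G) = ⊥ := m.gen.gen ▸ le_bot_iff.mp (sSup_le fun B hB => absurd hB (hcon B))
    have : t ∈ (⊥ : Subgroup G) := h0 ▸ Subgroup.mem_top t
    rw [Subgroup.mem_bot] at this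
    rw [this, orderOf_one] at ht
    exact absurd ht (by norm_num)
  obtain ⟨B, hB, -, hBt⟩ := m.exists_mid ht' hB₀
  -- a member normalised by both
  obtain ⟨A, hA, hAt, hAu⟩ : ∃ A ∈ D, MulAut.conj t • A = A ∧ MulAut.conj u • A = A := by
    have hinvt : MulAut.conj t • (B ⊔ MulAut.conj u • B) = B ⊔ MulAut.conj u • B := by
      rw [Subgroup.smul_sup, hBt, conj_smul_comm hc, hBt]
    have hinvu := conj_smul_sup_self hu' B
    have h := m.odd_fixed_members ht' hB (m.gen.conj B hB u) hinvt
    let X := {X : {X : Subgroup G // X ∈ D ∧ X ≤ B ⊔ MulAut.conj u • B} //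
      MulAut.conj t • (X : Subgroup G) = X}
    let f : X → X := fun Y => ⟨⟨MulAut.conj u • (Y.1 : Subgroup G),
      m.gen.conj_le_conj Y.1.2.1 Y.1.2.2 hinvu⟩, by
        show MulAut.conj t • (MulAut.conj u • (Y.1 : Subgroup G)) = _
        rw [conj_smul_comm hc, Y.2]⟩
    have h2 := exists_fixed_of_odd (f := f)
      (fun Y => Subtype.ext (Subtype.ext (conj_conj_eq_of_sq hu' _))) h
    obtain ⟨⟨⟨Y, hY⟩, hYt⟩, hYu⟩ := (Nat.card_pos_iff.mp h2.pos).1.some
    exact ⟨Y, hY.1, hYt, congrArg (fun Z : X => (Z.1 : Subgroup G)) hYu⟩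
  obtain ⟨a, ha, hap⟩ : ∃ a, A = Subgroup.zpowers a ∧ a ^ p = 1 := by
    haveI := Fact.mk m.gen.pp
    haveI : IsCyclic A := isCyclic_of_prime_card (m.gen.card A hA)
    obtain ⟨⟨a, ha⟩, hgen⟩ := IsCyclic.exists_generator (α := A)
    refine ⟨a, le_antisymm (fun x hx => ?_) (Subgroup.zpowers_le.mpr ha), ?_⟩
    · obtain ⟨k, hk⟩ := hgen ⟨x, hx⟩
      exact ⟨k, congrArg Subtype.val hk⟩
    · have := pow_card_eq_one' (G := A) (x := ⟨a, ha⟩)
      rw [m.gen.card A hA] at this
      exact congrArg Subtype.val this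
  have key : ∀ x : G, x * x = 1 → MulAut.conj x • A = A → x * a * x⁻¹ = a ∨ x * a * x⁻¹ = a⁻¹ := by
    intro x hx hxA
    haveI := Fact.mk m.gen.pp
    have h1 : x * a * x⁻¹ ∈ A := by
      rw [← hxA]
      exact Coprime.conj_mem_conj_smul (ha ▸ Subgroup.mem_zpowers a)
    rw [ha] at h1
    obtain ⟨k, hk⟩ := h1
    simp only at hk
    have h2 : a ^ (k * k) = a := by
      rw [zpow_mul, hk, conj_zpow, hk, show x * (x * a * x⁻¹) * x⁻¹ = (x * x) * a * (x * x)⁻¹ by group,
        hx, one_mul, inv_one, mul_one]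
    have ha0 : orderOf a = p := by
      have := Nat.card_zpowers a
      rw [← ha, m.gen.card A hA] at this
      exact this.symm
    have h3 : ((k : ZMod p)) * (k : ZMod p) = 1 := by
      have := orderOf_dvd_iff_zpow_eq_one.mpr (show a ^ (k * k - 1) = 1 by
        rw [zpow_sub, h2, zpow_one, mul_inv_cancel])
      rw [ha0, ← ZMod.intCast_zmod_eq_zero_iff_dvd, Int.cast_sub, Int.cast_mul, Int.cast_one,
        sub_eq_zero] at this
      exact this
    rcases mul_self_eq_one_iff.mp h3 with h4 | h4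
    · left
      have h5 : (p : ℤ) ∣ k - 1 := by
        rw [← ZMod.intCast_zmod_eq_zero_iff_dvd, Int.cast_sub, Int.cast_one, h4, sub_self]
      rw [← ha0, orderOf_dvd_iff_zpow_eq_one, zpow_sub, zpow_one, mul_inv_eq_one] at h5
      rw [← hk, h5]
    · right
      have h5 : (p : ℤ) ∣ k + 1 := by
        rw [← ZMod.intCast_zmod_eq_zero_iff_dvd, Int.cast_add, Int.cast_one, h4, neg_add_cancel]
      rw [← ha0, orderOf_dvd_iff_zpow_eq_one, zpow_add, zpow_one, mul_eq_one_iff_eq_inv] at h5
      rw [← hk, h5]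
  have fin : ∀ x : G, x * a * x⁻¹ = a → x ∈ Subgroup.centralizer (A : Set G) := by
    intro x hx y hy
    rw [ha] at hy
    obtain ⟨j, rfl⟩ := hy
    exact ((show Commute x a from mul_inv_eq_iff_eq_mul.mp hx).zpow_right j).eq.symm
  rcases key t ht' hAt with h1 | h1
  · exact ⟨t, ht, A, hA, fin t h1⟩
  rcases key u hu' hAu with h2 | h2
  · exact ⟨u, hu2, A, hA, fin u h2⟩
  refine ⟨t * u, orderOf_eq_prime ?_ ?_, A, hA, fin _ ?_⟩
  · rw [pow_two, mul_assoc, ← mul_assoc u, ← hc.eq, mul_assoc t u u, hu', mul_one, ht']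
  · intro e
    refine hne ?_
    rw [mul_eq_one_iff_inv_eq, inv_eq_of_mul_eq_one_right ht'] at e
    exact e.symm
  · rw [show t * u * a * (t * u)⁻¹ = t * (u * a * u⁻¹) * t⁻¹ by group, h2,
      show t * a⁻¹ * t⁻¹ = (t * a * t⁻¹)⁻¹ by group, h1, inv_inv]

variable {t : G} {A : Subgroup G}

include m in
/-- The members normalised by an involution centralising a member are centralised. -/
theorem le_cenHull_of_fixed (hA : A ∈ D) (htA : t ∈ Subgroup.centralizer (A : Set G))
    {B : Subgroup G} (hB : B ∈ D) (hfix : MulAut.conj t • B = B) : B ≤ cenHull D t :=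
  le_hull hB (le_centralizer_singleton_of_mem (m.gen.centralizes_of_normalizes hA hB htA hfix))

include m in
/-- An involution fixing only `A` on a line inverts the kernel modulo the centre. -/
theorem conj_conj_eq_conj_inv (hA : A ∈ D) {B : Subgroup G} (hB : B ∈ D) (ht : t * t = 1)
    (htA : MulAut.conj t • A = A) (hinv : MulAut.conj t • (A ⊔ B) = A ⊔ B)
    (honly : ∀ X ∈ D, X ≤ A ⊔ B → MulAut.conj t • X = X → X = A) {r : G}
    (hr : r ∈ qPart q (A ⊔ B)) :
    MulAut.conj t • (MulAut.conj r • A) = MulAut.conj r⁻¹ • A := by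
  have hS := m.gen.shape (A ⊔ B) (m.gen.odd_pair A hA B hB) (closed_sup hA hB) A hA le_sup_left
  set Q := qPart q (A ⊔ B)
  set C := (Subgroup.centralizer ((A ⊔ B : Subgroup G) : Set G)).subgroupOf Q with hC
  have htN : t ∈ Subgroup.normalizer (Q : Set G) := mem_normalizer_qPart hinv
  haveI : C.Normal := ⟨fun x hx y => by
    have hxy : (y : G) * (x : G) = (x : G) * (y : G) :=
      (Subgroup.mem_subgroupOf.mp hx) y (qPart_le _ y.2)
    have : y * x * y⁻¹ = x := by
      apply Subtype.ext
      simp only [Subgroup.coe_mul, Subgroup.coe_inv]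
      rw [hxy, mul_inv_cancel_right]
    rwa [this]⟩
  set φ : Q →* Q := (Q.normalizerMonoidHom ⟨t, htN⟩).toMonoidHom
  have hφ : ∀ x : Q, ((φ x : Q) : G) = t * (x : G) * t⁻¹ := fun _ => rfl
  have hCφ : C ≤ C.comap φ := by
    intro x hx
    rw [Subgroup.mem_comap, hC, Subgroup.mem_subgroupOf, hφ]
    have h1 := Coprime.conj_mem_conj_smul (g := t) (Subgroup.mem_subgroupOf.mp hx)
    rwa [conj_smul_centralizer, hinv] at h1
  set ψ := QuotientGroup.map C C φ hCφ
  have hconj : ∀ x : Q, MulAut.conj ((φ x : Q) : G) • A = MulAut.conj t • (MulAut.conj (x : G) • A) := by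
    intro x
    rw [hφ, map_mul, map_mul, map_inv, mul_smul, mul_smul,
      show (MulAut.conj t)⁻¹ • A = A from inv_smul_eq_iff.mpr htA.symm]
  have hfpf : MonoidHom.FixedPointFree ψ := by
    intro y hy
    obtain ⟨x, rfl⟩ := QuotientGroup.mk_surjective y
    rw [QuotientGroup.map_mk, QuotientGroup.eq, hC, Subgroup.mem_subgroupOf] at hy
    have he := (m.gen.conj_eq_conj_iff hA le_sup_left hS (φ x).2 x.2).mpr hy
    rw [hconj] at he
    have hXA := honly _ (m.gen.conj A hA _)
      (m.gen.conj_le_conj hA le_sup_left (Coprime.conj_smul_eq_of_mem (qPart_le _ x.2))).2 he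
    rw [QuotientGroup.eq_one_iff, hC, Subgroup.mem_subgroupOf]
    exact m.gen.mem_centralizer_of_normalizes hA le_sup_left hS x.2 hXA
  have hinvol : Function.Involutive ψ := by
    intro y
    obtain ⟨x, rfl⟩ := QuotientGroup.mk_surjective y
    rw [QuotientGroup.map_mk, QuotientGroup.map_mk]
    congr 1
    apply Subtype.ext
    rw [hφ, hφ, show t * (t * (x : G) * t⁻¹) * t⁻¹ = (t * t) * (x : G) * (t * t)⁻¹ by group, ht,
      one_mul, inv_one, mul_one]
  have h1 := congrFun (hfpf.coe_eq_inv_of_involutive hinvol) (QuotientGroup.mk ⟨r, hr⟩)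
  rw [QuotientGroup.map_mk, ← QuotientGroup.mk_inv, QuotientGroup.eq, hC,
    Subgroup.mem_subgroupOf] at h1
  have h2 := (m.gen.conj_eq_conj_iff hA le_sup_left hS (φ ⟨r, hr⟩).2 (inv_mem hr)).mpr h1
  rwa [hconj] at h2

include m in
/-- An involution centralising a member centralises a second one. -/
theorem exists_second_centralised (hcen : ∀ z ∈ Subgroup.center G, orderOf z ≠ 2)
    (ht : orderOf t = 2) (hA : A ∈ D) (htA : t ∈ Subgroup.centralizer (A : Set G)) :
    ∃ B ∈ D, B ≠ A ∧ t ∈ Subgroup.centralizer (B : Set G) := by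
  by_contra hcon
  push Not at hcon
  have honly : ∀ X ∈ D, MulAut.conj t • X = X → X = A := fun X hX hfix => by
    by_contra hne
    exact hcon X hX hne (m.gen.centralizes_of_normalizes hA hX htA hfix)
  obtain ⟨g, hc, hne⟩ := m.exists_commuting_conj hcen ht
  set u := g * t * g⁻¹ with hu
  have hu2 : orderOf u = 2 := by
    rw [hu]
    exact ((MulAut.conj g).orderOf_eq t).trans ht
  have ht' := mul_self_eq_one ht
  have hu' := mul_self_eq_one hu2
  have htA' : MulAut.conj t • A = A :=
    Coprime.conj_smul_eq_self_of_mem_normalizer (Subgroup.centralizer_le_normalizer _ htA)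
  have hother : ∀ X ∈ D, MulAut.conj u • X = X → X = MulAut.conj g • A := by
    intro X hX hfix
    have h1 := honly _ (m.gen.conj X hX g⁻¹) (by
      rw [smul_smul, ← map_mul, show t * g⁻¹ = g⁻¹ * u by rw [hu]; group, map_mul, mul_smul, hfix])
    rw [← h1, smul_smul, ← map_mul, mul_inv_cancel, map_one, one_smul]
  have huA' : MulAut.conj u • A = A := honly _ (m.gen.conj A hA u) (by
    rw [conj_smul_comm hc, htA'])
  have hgA : MulAut.conj g • A = A := (hother A hA huA').symm
  have huA : u ∈ Subgroup.centralizer (A : Set G) := by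
    have := Coprime.conj_mem_conj_smul (g := g) htA
    rwa [conj_smul_centralizer, hgA] at this
  have hu_only : ∀ X ∈ D, MulAut.conj u • X = X → X = A := fun X hX hfix =>
    (hother X hX hfix).trans hgA
  -- both involutions act in the same way on every line through `A`
  have hsame : ∀ B ∈ D, MulAut.conj (t * u) • B = B := by
    intro B hB
    by_cases hBA : B = A
    · subst hBA
      rw [map_mul, mul_smul, huA', htA']
    have hline : ∀ s : G, s * s = 1 → (∀ X ∈ D, MulAut.conj s • X = X → X = A) →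
        MulAut.conj s • (A ⊔ B) = A ⊔ B := by
      intro s hs honly'
      obtain ⟨X, hX, hXle, hXfix⟩ := m.exists_mid hs hB
      obtain rfl := honly' X hX hXfix
      rw [m.sup_mid hB hX (fun e => hBA (honly' B hB e)) hXle hXfix, conj_smul_sup_self hs]
    have hS := m.gen.shape (A ⊔ B) (m.gen.odd_pair A hA B hB) (closed_sup hA hB) A hA le_sup_left
    obtain ⟨r, hr, rfl⟩ := hS.conj_mem B hB le_sup_right
    rw [map_mul, mul_smul, m.conj_conj_eq_conj_inv hA hB hu' huA' (hline u hu' hu_only)
        (fun X hX _ hfix => hu_only X hX hfix) hr,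
      m.conj_conj_eq_conj_inv hA hB ht' htA' (hline t ht' honly)
        (fun X hX _ hfix => honly X hX hfix) (inv_mem hr), inv_inv]
  have htu : t * u ∈ Subgroup.center G := m.gen.mem_center_of_centralizes fun B hB =>
    le_centralizer_singleton_of_mem
      (m.gen.centralizes_of_normalizes hA hB (mul_mem htA huA) (hsame B hB))
  refine hcen _ htu (orderOf_eq_prime ?_ ?_)
  · rw [pow_two, mul_assoc, ← mul_assoc u, ← hc.eq, mul_assoc t u u, hu', mul_one, ht']
  · intro e
    refine hne ?_
    rw [mul_eq_one_iff_inv_eq, inv_eq_of_mul_eq_one_right ht'] at e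
    exact e.symm

end Minimal

end CfsgLib.PairwiseLine
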