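import Cfsg.Agent.Lib.PairwiseLine.Involution
import Cfsg.Agent.Lib.PairwiseLine.Inherit
import Cfsg.Agent.Lib.PairwiseLine.CharFinish

/-!
# The group generated has odd order
-/

set_option autoImplicit false
set_option linter.style.haveILetI false

open Pointwise
open scoped commutatorElement

namespace CfsgLib.PairwiseLine

open CfsgLib.Coprime

/-- `O(C(t))` as a subgroup of `G`. -/
def coreCent {G : Type*} [Group G] (t : G) : Subgroup G :=
  (Cfsg.pPrimeCore 2 (Subgroup.centralizer ({t} : Set G))).map (Subgroup.centralizer {t}).subtype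

theorem le_coreCent {G : Type*} [Group G] [Finite G] {t : G} {N : Subgroup G}
    (hle : N ≤ Subgroup.centralizer {t}) (hodd : Odd (Nat.card N))
    (hN : ∀ g ∈ Subgroup.centralizer ({t} : Set G), MulAut.conj g • N = N) : N ≤ coreCent t := by
  intro x hx
  refine ⟨⟨x, hle hx⟩, Transfer.le_pPrimeCore ?_ ?_ (show (⟨x, hle hx⟩ : Subgroup.centralizer ({t} : Set G))
    ∈ N.subgroupOf (Subgroup.centralizer {t}) from hx), rfl⟩
  · exact (Subgroup.normal_subgroupOf_iff_le_normalizer hle).mpr fun g hg =>
      Coprime.mem_normalizer_iff_conj_smul.mpr (hN g hg)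
  · rw [Nat.card_congr (Subgroup.subgroupOfEquivOfLe hle).toEquiv]
    exact hodd.coprime_two_right

theorem odd_of_mem_coreCent {G : Type*} [Group G] [Finite G] {t x : G} (hx : x ∈ coreCent t) :
    Odd (orderOf x) := by
  obtain ⟨y, hy, rfl⟩ := hx
  rw [Subgroup.coe_subtype, Subgroup.orderOf_coe]
  have h1 := Transfer.coprime_orderOf_of_mem (Transfer.pPrimeCore_coprime 2) hy
  exact Nat.coprime_two_right.mp h1

variable {G : Type*} [Group G] [Finite G] {p q : ℕ} {D : Set (Subgroup G)}

namespace Minimal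

variable (m : Minimal p q D) {t : G} {A : Subgroup G}

include m in
theorem cenHull_invol_ne_top (hcen : ∀ z ∈ Subgroup.center G, orderOf z ≠ 2) (ht : orderOf t = 2) :
    cenHull D t ≠ ⊤ := fun e => hcen t (m.gen.cenHull_eq_top e) ht

include m in
theorem cenHull_le_coreCent (hcen : ∀ z ∈ Subgroup.center G, orderOf z ≠ 2) (ht : orderOf t = 2) :
    cenHull D t ≤ coreCent t :=
  le_coreCent (cenHull_le_centralizer D t)
    (m.odd_of_proper _ (closed_hull _ _) (m.cenHull_invol_ne_top hcen ht))
    fun g hg => m.gen.conj_smul_cenHull_of_commute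
      (Subgroup.mem_centralizer_singleton_iff.mp hg)

include m in
/-- A group generated by members containing the centralised members is invariant. -/
theorem conj_smul_eq_of_ge (ht : t * t = 1) (hA : A ∈ D)
    (htA : t ∈ Subgroup.centralizer (A : Set G)) {W : Subgroup G} (hW : Closed D W)
    (hKW : cenHull D t ≤ W) : MulAut.conj t • W = W := by
  refine Subgroup.eq_of_le_of_card_ge ?_ (Coprime.card_conj_smul t W).ge
  rw [Subgroup.pointwise_smul_subset_iff]
  refine hW.trans (sSup_le fun X hX => ?_)
  rw [← Subgroup.pointwise_smul_subset_iff]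
  by_cases hfix : MulAut.conj t • X = X
  · exact hfix.le.trans hX.2
  obtain ⟨M, hM, hMX, hMfix⟩ := m.exists_mid ht hX.1
  calc MulAut.conj t • X ≤ X ⊔ MulAut.conj t • X := le_sup_right
    _ = M ⊔ X := (m.sup_mid hX.1 hM hfix hMX hMfix).symm
    _ ≤ W := sup_le ((m.le_cenHull_of_fixed hA htA hM hMfix).trans hKW) hX.2

include m in
/-- The fixed points of an involution on an invariant line lie in `O(C(t))`. -/
theorem mem_coreCent_of_line (hcen : ∀ z ∈ Subgroup.center G, orderOf z ≠ 2) (ht : orderOf t = 2)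
    (hA : A ∈ D) (htA : t ∈ Subgroup.centralizer (A : Set G)) {B : Subgroup G} (hB : B ∈ D)
    (hne : MulAut.conj t • B ≠ B) {w : G} (hw : w ∈ B ⊔ MulAut.conj t • B) (hwt : Commute t w) :
    w ∈ coreCent t := by
  haveI := Fact.mk m.gen.qq
  have ht' := mul_self_eq_one ht
  set T := B ⊔ MulAut.conj t • B with hT
  obtain ⟨M, hM, hMT, hMfix⟩ := m.exists_mid ht' hB
  have hline := m.sup_mid hB hM hne hMT hMfix
  have htM := m.gen.centralizes_of_normalizes hA hM htA hMfix
  set K := cenHull D t with hK
  have hKc : Closed D K := closed_hull _ _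
  have hKt := m.cenHull_invol_ne_top hcen ht
  have hKO : K ≤ coreCent t := m.cenHull_le_coreCent hcen ht
  have hMK : M ≤ K := m.le_cenHull_of_fixed hA htA hM hMfix
  have hTc : Closed D T := closed_sup hB (m.gen.conj B hB t)
  have hTodd : Odd (Nat.card T) := m.gen.odd_pair B hB _ (m.gen.conj B hB t)
  have hST := m.gen.shape T hTodd hTc M hM hMT
  have hTinv : MulAut.conj t • T = T := conj_smul_sup_self ht' B
  have hwT := hw
  rw [← hST.sup_eq, ← SetLike.mem_coe, Subgroup.coe_mul_of_right_le_normalizer_left _ M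
    (m.gen.normalizer_qPart hMT)] at hwT
  obtain ⟨r, hr, a, ha, rfl⟩ := hwT
  have hat : t * a = a * t := (htM a ha).symm
  have hrt : Commute t r := by
    have h1 : t * (r * a) = r * a * t := hwt.eq
    rw [← mul_assoc, mul_assoc r a t, ← hat, ← mul_assoc, mul_left_inj] at h1
    exact h1
  refine mul_mem ?_ (hKO (hMK ha))
  by_cases hfix : MulAut.conj r • M = M
  swap
  · have hX : MulAut.conj r • M ≤ T :=
      (m.gen.conj_le_conj hM hMT (Coprime.conj_smul_eq_of_mem (qPart_le T hr))).2
    have hXt : MulAut.conj t • (MulAut.conj r • M) = MulAut.conj r • M := by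
      rw [conj_smul_comm hrt, hMfix]
    have hTK : T ≤ K := by
      rw [hT, ← m.gen.line B hB _ (m.gen.conj B hB t) M hM _ (m.gen.conj M hM r) (Ne.symm hfix) hMT hX]
      exact sup_le hMK (m.le_cenHull_of_fixed hA htA (m.gen.conj M hM r) hXt)
    exact hKO (hTK (qPart_le T hr))
  by_cases hr1 : r = 1
  · rw [hr1]; exact one_mem _
  have hrC := m.gen.mem_centralizer_of_normalizes hM hMT hST hr hfix
  obtain ⟨n, hn⟩ := hST.isPGroup ⟨r, hr⟩
  have hrn : r ^ q ^ n = 1 := congrArg Subtype.val hn
  set Y := cenHull D r with hYdef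
  have hYc : Closed D Y := closed_hull _ _
  have hYt : Y ≠ ⊤ := m.cenHull_ne_top hr1 hrn
  have hTY : T ≤ Y := le_cenHull hTc hrC
  have hrY : r ∈ qPart q Y := qPart_mono hTY hr
  have hrK : MulAut.conj r • K = K := m.gen.conj_smul_cenHull_of_commute hrt.symm
  have hSK := m.shape hKc hKt hM hMK
  set QK := qPart q K with hQK
  -- a second member centralised by both
  obtain ⟨B₁, hB₁, hB₁M, htB₁⟩ := m.exists_second_centralised hcen ht hM htM
  have hB₁K : B₁ ≤ K := le_hull hB₁ (le_centralizer_singleton_of_mem htB₁)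
  have hQKc : ¬ QK ≤ QK ⊓ Subgroup.centralizer (K : Set G) := by
    intro hle
    obtain ⟨x, hx, rfl⟩ := hSK.conj_mem B₁ hB₁ hB₁K
    exact hB₁M (Coprime.conj_smul_eq_self_of_mem_normalizer (Subgroup.centralizer_le_normalizer _
      (Subgroup.centralizer_le hMK (Subgroup.mem_inf.mp (hle hx)).2)))
  obtain ⟨r₀, hr₀, hr₀H, hr₀r⟩ := exists_fixed_coset (E := Subgroup.zpowers r) hSK.isPGroup
    (hST.isPGroup.to_le (Subgroup.zpowers_le.mpr hr))
    (Subgroup.zpowers_le.mpr (mem_normalizer_qPart hrK))
    (fun y hy => mem_normalizer_of_le fun x hx => by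
      obtain ⟨hx1, hx2⟩ := Subgroup.mem_inf.mp hx
      rw [hx2 y (qPart_le K hy), mul_inv_cancel_right]
      exact hx)
    (Subgroup.zpowers_le.mpr (by
      rw [Coprime.mem_normalizer_iff_conj_smul, Subgroup.smul_inf, conj_smul_qPart hrK,
        conj_smul_centralizer, hrK]))
    hQKc inf_le_left
  set M' := MulAut.conj r₀ • M with hM'def
  have hM' : M' ∈ D := m.gen.conj M hM r₀
  have hM'K : M' ≤ K :=
    (m.gen.conj_le_conj hM hMK (Coprime.conj_smul_eq_of_mem (qPart_le K hr₀))).2
  have hM'ne : M ≠ M' := fun e => hr₀H (Subgroup.mem_inf.mpr ⟨hr₀,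
    m.gen.mem_centralizer_of_normalizes hM hMK hSK hr₀ e.symm⟩)
  have hM'r : MulAut.conj r • M' = M' := by
    have h1 := (Subgroup.mem_inf.mp (hr₀r r (Subgroup.mem_zpowers r))).2
    have h2 : r * r₀ * r⁻¹ ∈ QK :=
      (Subgroup.mem_normalizer_iff.mp (mem_normalizer_qPart hrK) r₀).mp hr₀
    have h3 := (m.gen.conj_eq_conj_iff hM hMK hSK hr₀ h2).mpr (by
      rw [show r₀⁻¹ * (r * r₀ * r⁻¹) = r₀⁻¹ * r * r₀ * r⁻¹ by group]; exact h1)
    rw [hM'def]
    conv_rhs => rw [h3, map_mul, map_mul, mul_smul, mul_smul, map_inv,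
      show (MulAut.conj r)⁻¹ • M = M from inv_smul_eq_iff.mpr hfix.symm]
  have hrM : r ∈ Subgroup.centralizer (M : Set G) := Subgroup.centralizer_le hMT hrC
  have hM'Y : M' ≤ Y := le_hull hM'
    (le_centralizer_singleton_of_mem (m.gen.centralizes_of_normalizes hM hM' hrM hM'r))
  have hMY : M ≤ Y := hMT.trans hTY
  have hKY : K ≤ Y :=
    m.le_of_two_common hrY hr1 hYt hKc hKt hrK hM hM' hM'ne hMK hM'K hMY hM'Y
  have hSY := m.shape hYc hYt hM hMY
  have hYC : r ∈ Subgroup.centralizer (Y : Set G) :=
    mem_centralizer_of_le (cenHull_le_centralizer D r)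
  -- `C(t)` normalises `Y`
  have hnormY : ∀ g ∈ Subgroup.centralizer ({t} : Set G), MulAut.conj g • Y = Y := by
    intro g hg
    have hgK : MulAut.conj g • K = K :=
      m.gen.conj_smul_cenHull_of_commute (Subgroup.mem_centralizer_singleton_iff.mp hg)
    have hsame : ∀ z ∈ qPart q K ⊔ qPart q Y, z ∈ Subgroup.centralizer (Y : Set G) → z ≠ 1 →
        cenHull D z = Y := by
      intro z hz hzC hz1
      have hz' : z ∈ qPart q Y := sup_le (qPart_mono hKY) le_rfl hz
      obtain ⟨nz, hnz⟩ := m.exists_pow_of_mem_qPart hSY hz'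
      exact le_antisymm (m.le_cenHull_of_ge (closed_hull _ _) (m.cenHull_ne_top hz1 hnz)
        (le_cenHull hYc hzC) hM hMY hrY) (le_cenHull hYc hzC)
    by_cases hZK : K ⊓ Subgroup.centralizer (K : Set G) = ⊥
    swap
    · obtain ⟨z, hz, hz1⟩ := SetLike.not_le_iff_exists.mp (mt le_bot_iff.mp hZK)
      rw [Subgroup.mem_bot] at hz1
      have hY' : ∀ y ∈ K ⊓ Subgroup.centralizer (K : Set G), y ≠ 1 → cenHull D y = Y := fun y hy hy1 =>
        hsame y (Subgroup.mem_sup_left (m.gen.center_le_qPart hM hM' hM'ne hMK hM'K hSK hy))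
          (m.mem_centralizer_of_le_closed hYc hYt hKY hM hMK
            (m.gen.center_le_qPart hM hM' hM'ne hMK hM'K hSK hy)
            (Subgroup.centralizer_le hMK (Subgroup.mem_inf.mp hy).2)) hy1
      have hgz : g * z * g⁻¹ ∈ K ⊓ Subgroup.centralizer (K : Set G) := by
        have h1 := Coprime.conj_mem_conj_smul (g := g) hz
        rwa [Subgroup.smul_inf, conj_smul_centralizer, hgK] at h1
      rw [← hY' z hz hz1, m.gen.conj_smul_cenHull, hY' _ hgz (fun e => hz1 (conj_eq_one_iff.mp e)),
        hY' z hz hz1]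
    have hcl := m.gen.class_two (m.odd_of_proper Y hYc hYt) hYc hM hMY hrY
      (Subgroup.centralizer_le hMY hYC) hr1
    have hQKab : ∀ x ∈ QK, ∀ y ∈ QK, Commute x y := by
      intro x hx y hy
      have h1 : ⁅x, y⁆ ∈ K ⊓ Subgroup.centralizer (K : Set G) := Subgroup.mem_inf.mpr
        ⟨mul_mem (mul_mem (mul_mem (qPart_le K hx) (qPart_le K hy)) (inv_mem (qPart_le K hx)))
          (inv_mem (qPart_le K hy)),
          hcl K (m.odd_of_proper K hKc hKt) hKc M hM hMK (Subgroup.commutator_mem_commutator hx hy)⟩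
      rw [hZK, Subgroup.mem_bot] at h1
      exact commutatorElement_eq_one_iff_commute.mp h1
    by_cases hall : ∀ y ∈ qPart q Y, ∀ k ∈ QK, Commute y k
    · set S := hull D fun X => X ≤ Subgroup.normalizer (QK : Set G)
      have hYS : Y ≤ S := hYc.trans (sSup_le fun X hX => by
        obtain ⟨y, hy, hyX⟩ := hSY.conj_mem X hX.1 hX.2
        refine le_hull hX.1 ?_
        rw [hyX]
        exact (Subgroup.pointwise_smul_le_pointwise_smul_iff.mpr (m.gen.normalizer_qPart hMK)).trans
          (Coprime.conj_smul_eq_of_mem (Subgroup.centralizer_le_normalizer _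
            fun k hk => (hall y hy k hk).eq.symm)).le)
      have hSt : S ≠ ⊤ := by
        intro e
        have hbot : QK = ⊥ := m.eq_bot_of_le_normalizer hSK.isPGroup fun X _ =>
          (le_top.trans e.ge).trans (hull_le fun _ _ h => h)
        exact hQKc (hbot.le.trans bot_le)
      have hSY' : S = Y :=
        le_antisymm (m.le_cenHull_of_ge (closed_hull _ _) hSt hYS hM hMY hrY) hYS
      rw [← hSY']
      exact m.gen.conj_smul_hull fun X _ hX =>
        (Subgroup.pointwise_smul_le_pointwise_smul_iff.mpr hX).trans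
          (Coprime.conj_smul_eq_of_mem (mem_normalizer_qPart hgK :
            g ∈ Subgroup.normalizer (QK : Set G))).le
    push Not at hall
    obtain ⟨y, hy, k, hk, hyk⟩ := hall
    set z := ⁅y, k⁆ with hzdef
    have hz1 : z ≠ 1 := fun e => hyk (commutatorElement_eq_one_iff_commute.mp e)
    have hkY : k ∈ qPart q Y := qPart_mono hKY hk
    have hzY : z ∈ qPart q Y :=
      mul_mem (mul_mem (mul_mem hy hkY) (inv_mem hy)) (inv_mem hkY)
    have hYodd := m.odd_of_proper Y hYc hYt
    have hzC : z ∈ Subgroup.centralizer (Y : Set G) :=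
      hcl Y hYodd hYc M hM hMY (Subgroup.commutator_mem_commutator hy hkY)
    -- `z` is inverted by `t`
    have htY : MulAut.conj t • Y = Y := m.gen.conj_smul_cenHull_of_commute hrt
    set y' := t * y * t⁻¹ with hy'def
    have hy' : y' ∈ qPart q Y :=
      (Subgroup.mem_normalizer_iff.mp (mem_normalizer_qPart htY) y).mp hy
    have htk : t * k * t⁻¹ = k := by
      rw [← Subgroup.mem_centralizer_singleton_iff.mp (cenHull_le_centralizer D t (qPart_le K hk)),
        mul_inv_cancel_right]
    have htz : t * z * t⁻¹ = ⁅y', k⁆ := by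
      conv_rhs => rw [← htk]
      simp only [hzdef, hy'def, commutatorElement_def]; group
    have hwcomm : ⁅y * y', k⁆ = 1 := by
      set X := MulAut.conj (y * y') • M with hXdef
      have hXY : X ≤ Y :=
        (m.gen.conj_le_conj hM hMY (Coprime.conj_smul_eq_of_mem (qPart_le Y (mul_mem hy hy')))).2
      have hXfix : MulAut.conj t • X = X := by
        have h1 : t * (y * y') = y' * y * t := by
          have hti : t⁻¹ = t := inv_eq_of_mul_eq_one_right ht'
          calc t * (y * y') = t * y * (t * y * t⁻¹) := by simp only [hy'def, mul_assoc]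
            _ = t * y * t⁻¹ * (t * t) * y * t⁻¹ := by group
            _ = y' * y * t⁻¹ := by rw [ht', hy'def]; group
            _ = y' * y * t := by rw [hti]
        have h2 : MulAut.conj (y' * y) • M = MulAut.conj (y * y') • M := by
          refine (m.gen.conj_eq_conj_iff hM hMY hSY (mul_mem hy' hy) (mul_mem hy hy')).mpr ?_
          rw [show (y' * y)⁻¹ * (y * y') = ⁅y⁻¹, y'⁻¹⁆ by rw [commutatorElement_def]; group]
          exact hcl Y hYodd hYc M hM hMY (Subgroup.commutator_mem_commutator (inv_mem hy) (inv_mem hy'))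
        rw [hXdef, smul_smul, ← map_mul, h1, map_mul, mul_smul, hMfix, h2]
      obtain ⟨k', hk', hk'X⟩ :=
        hSK.conj_mem X (m.gen.conj M hM _) (m.le_cenHull_of_fixed hA htA (m.gen.conj M hM _) hXfix)
      have he := (m.gen.conj_eq_conj_iff hM hMY hSY (mul_mem hy hy') (qPart_mono hKY hk')).mp hk'X
      set e := (y * y')⁻¹ * k'
      have hyy : y * y' = k' * e⁻¹ := by simp only [e]; group
      have hke : k * e⁻¹ = e⁻¹ * k := (inv_mem he) k (hKY (qPart_le K hk))
      rw [hyy, commutatorElement_eq_one_iff_commute]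
      exact Commute.mul_left (hQKab k' hk' k hk) hke.symm
    have hinvz : t * z * t⁻¹ = z⁻¹ := by
      have hz' : ⁅y', k⁆ ∈ Subgroup.centralizer (Y : Set G) :=
        hcl Y hYodd hYc M hM hMY (Subgroup.commutator_mem_commutator hy' hkY)
      have h1 : y * ⁅y', k⁆ = ⁅y', k⁆ * y := hz' y (qPart_le Y hy)
      have h2 : ⁅y', k⁆ * z = 1 := by
        rw [← hwcomm, show ⁅y * y', k⁆ = y * ⁅y', k⁆ * y⁻¹ * z by
          simp only [hzdef, commutatorElement_def]; group, h1, mul_inv_cancel_right]
      rw [htz]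
      exact eq_inv_of_mul_eq_one_left h2
    -- so `z` normalises every group above `K`
    set W := MulAut.conj g • Y with hWdef
    have hWc : Closed D W := m.gen.closed_conj hYc g
    have hKW : K ≤ W := hgK ▸ Subgroup.pointwise_smul_le_pointwise_smul_iff.mpr hKY
    have hzK : MulAut.conj z • K = K := Coprime.conj_smul_eq_self_of_mem_normalizer
      (Subgroup.centralizer_le_normalizer _ (Subgroup.centralizer_le hKY hzC))
    have hz2 : MulAut.conj (z * z) • W = W := by
      have hKW' : K ≤ MulAut.conj z⁻¹ • W := by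
        rw [map_inv, ← Subgroup.pointwise_smul_subset_iff, hzK]
        exact hKW
      have h2 := m.conj_smul_eq_of_ge ht' hA htA (m.gen.closed_conj hWc z⁻¹) hKW'
      rw [smul_smul, ← map_mul] at h2
      have h3 := congrArg (MulAut.conj z • ·) h2
      simp only [smul_smul, ← map_mul] at h3
      rw [mul_inv_cancel, map_one, one_smul] at h3
      have htW := m.conj_smul_eq_of_ge ht' hA htA hWc hKW
      have h4 : z * (t * z⁻¹) = z * z * t := by
        rw [show t * z⁻¹ = (t * z * t⁻¹)⁻¹ * t by group, hinvz, inv_inv, mul_assoc]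
      rw [h4, map_mul, mul_smul, htW] at h3
      exact h3
    obtain ⟨nz, hnz⟩ := m.exists_pow_of_mem_qPart hSY hzY
    have hzW : MulAut.conj z • W = W := by
      obtain ⟨j, hj⟩ := ((m.gen.qq.odd_of_ne_two m.gen.q_ne_two).pow (n := nz))
      have hmem : z ∈ Subgroup.normalizer (W : Set G) := by
        have h5 : z = (z * z) ^ (j + 1) := by
          rw [← pow_two, ← pow_mul, show 2 * (j + 1) = q ^ nz + 1 by omega, pow_succ, hnz, one_mul]
        rw [h5]
        exact pow_mem (Coprime.mem_normalizer_iff_conj_smul.mpr hz2) _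
      exact Coprime.conj_smul_eq_self_of_mem_normalizer hmem
    have hYz : cenHull D z = Y := hsame z (Subgroup.mem_sup_right hzY) hzC hz1
    have hWt : W ≠ ⊤ := fun e => hYt (Subgroup.eq_top_of_card_eq Y (by
      rw [← Coprime.card_conj_smul g Y, ← hWdef, e, Subgroup.card_top]))
    have hfin := m.le_of_two_common (c := z) (by rw [hYz]; exact hzY) hz1 (hYz ▸ hYt) hWc hWt hzW
      hM hM' hM'ne (hMK.trans hKW) (hM'K.trans hKW) (hYz.symm ▸ hMY) (hYz.symm ▸ hM'Y)
    rw [hYz] at hfin
    exact Subgroup.eq_of_le_of_card_ge hfin (Coprime.card_conj_smul g Y).ge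
  refine le_coreCent (N := Y ⊓ Subgroup.centralizer (Y : Set G) ⊓ Subgroup.centralizer {t})
    inf_le_right ((m.odd_of_proper Y hYc hYt).of_dvd_nat
      (Subgroup.card_dvd_of_le (inf_le_left.trans inf_le_left)))
    (fun g hg => ?_) (Subgroup.mem_inf.mpr ⟨Subgroup.mem_inf.mpr ⟨qPart_le Y hrY, hYC⟩,
      Subgroup.mem_centralizer_singleton_iff.mpr hrt.eq.symm⟩)
  rw [Subgroup.smul_inf, Subgroup.smul_inf, conj_smul_centralizer, hnormY g hg,
    conj_smul_centralizer_singleton, Subgroup.mem_centralizer_singleton_iff.mp hg, mul_inv_cancel_right]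

include m in
/-- Principal block characters are constant on `t` times a class of members. -/
theorem value_translate (hcen : ∀ z ∈ Subgroup.center G, orderOf z ≠ 2) (ht : orderOf t = 2)
    (hA : A ∈ D) (htA : t ∈ Subgroup.centralizer (A : Set G)) [Fintype G] {M : Ideal Cfsg.AlgInt}
    (hM : Cfsg.IsPModular 2 M) {χ : Cfsg.IrrCharacter G} (hχ : χ ∈ Cfsg.principalBlock M G)
    {a : G} (ha : a ∈ A) (g : G) :
    (χ : G → ℂ) (t * (g * a * g⁻¹)) = (χ : G → ℂ) t := by
  classical
  haveI := Fintype.ofFinite (Subgroup.centralizer ({t} : Set G))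
  have ht' := mul_self_eq_one ht
  have hconst : ∀ v ∈ coreCent t, (χ : G → ℂ) (t * v) = (χ : G → ℂ) t := by
    intro v hv
    have hodd := odd_of_mem_coreCent hv
    obtain ⟨v, hvm, rfl⟩ := hv
    rw [Subgroup.coe_subtype, Subgroup.orderOf_coe] at hodd
    have h1 := Blocks.value_mul_pPrimeCore hM (x := t) ⟨1, by rw [ht, pow_one]⟩ hχ
      (y := 1) (v := v) (by rw [orderOf_one]; norm_num)
      (by rw [one_mul]; exact fun h => Nat.not_even_iff_odd.mpr hodd (even_iff_two_dvd.mpr h)) hvm
    rw [one_mul, Subgroup.coe_one, mul_one] at h1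
    exact h1
  set b := g * a * g⁻¹ with hb
  set B := MulAut.conj g • A with hBdef
  have hB : B ∈ D := m.gen.conj A hA g
  have hbB : b ∈ B := Coprime.conj_mem_conj_smul ha
  by_cases hfix : MulAut.conj t • B = B
  · exact hconst b (m.cenHull_le_coreCent hcen ht (m.le_cenHull_of_fixed hA htA hB hfix hbB))
  set T := B ⊔ MulAut.conj t • B with hT
  have hTinv : MulAut.conj t • T = T := conj_smul_sup_self ht' B
  have htT : ∀ x ∈ T, t * x * t⁻¹ ∈ T := fun x hx => hTinv ▸ Coprime.conj_mem_conj_smul hx
  have hti : t⁻¹ = t := inv_eq_of_mul_eq_one_right ht'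
  set y := t * b
  have hbT : b ∈ T := Subgroup.mem_sup_left hbB
  have hy2 : y * y ∈ T := by
    rw [show y * y = (t * b * t) * b by simp only [y, mul_assoc]]
    refine mul_mem ?_ hbT
    have := htT b hbT
    rwa [hti] at this
  have hTodd : Odd (Nat.card T) := m.gen.odd_pair B hB _ (m.gen.conj B hB t)
  have hoddT : ∀ x ∈ T, Odd (orderOf x) := fun x hx =>
    hTodd.of_dvd_nat (Subgroup.orderOf_coe (⟨x, hx⟩ : T) ▸ orderOf_dvd_natCard _)
  obtain ⟨j, hj⟩ := hoddT _ hy2
  set u := b * (y * y) ^ j with hudef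
  have huT : u ∈ T := mul_mem hbT (pow_mem hy2 j)
  have hyk : y ^ (2 * j + 1) = t * u := by
    rw [pow_succ', pow_mul, pow_two, hudef]
    simp only [y, mul_assoc]
  have htu : t * u * (t * u) = 1 := by
    rw [← hyk, ← pow_add, show 2 * j + 1 + (2 * j + 1) = 2 * (2 * j + 1) by ring, pow_mul, pow_two,
      ← hj, pow_orderOf_eq_one]
  have hinvu : t * u * t⁻¹ = u⁻¹ := by
    rw [hti]
    refine eq_inv_of_mul_eq_one_left ?_
    rwa [mul_assoc]
  obtain ⟨i, hi⟩ := hoddT u huT
  set s := u ^ (i + 1) with hs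
  have hss : s * s = u := by
    rw [hs, ← pow_add, show i + 1 + (i + 1) = orderOf u + 1 by omega, pow_succ, pow_orderOf_eq_one,
      one_mul]
  have hts : t * s * t⁻¹ = s⁻¹ := by rw [hs, ← conj_pow, hinvu, inv_pow]
  have hsT : s ∈ T := pow_mem huT _
  have hcenter : s * (t * u) * s⁻¹ = t := by
    calc s * (t * u) * s⁻¹ = s * (t * (s * s)) * s⁻¹ := by rw [hss]
      _ = s * ((t * s * t⁻¹) * t) := by group
      _ = s * (s⁻¹ * t) := by rw [hts]
      _ = t := by group
  set w₀ := s * y * s⁻¹ with hw₀
  have hw₀t : Commute t w₀ := by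
    have h1 : Commute (t * u) y := hyk ▸ (Commute.refl y).pow_left _
    have h2 := h1.map (MulAut.conj s).toMonoidHom
    simp only [MulEquiv.coe_toMonoidHom, MulAut.conj_apply, hcenter] at h2
    exact h2
  set w := t * w₀
  have hw : w ∈ T := by
    have : w = (t * s * t⁻¹) * (b * s⁻¹) := by simp only [w, w₀, y, hti]; group
    rw [this]
    exact mul_mem (htT s hsT) (mul_mem hbT (inv_mem hsT))
  have hwt : Commute t w := (Commute.refl t).mul_right hw₀t
  have h1 := hconst w (m.mem_coreCent_of_line hcen ht hA htA hB hfix hw hwt)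
  rw [show t * w = w₀ by simp only [w]; rw [← mul_assoc, ht', one_mul]] at h1
  rw [← h1]
  exact Blocks.IsClassFunction.eq_of_isConj (Blocks.irr_classFunction χ)
    (isConj_iff.mpr ⟨s, rfl⟩)

end Minimal

/-- The configuration forces odd order. -/
theorem odd_card : ∀ (n : ℕ) {G : Type*} [Group G] [Finite G] {D : Set (Subgroup G)},
    Nat.card G = n → GEN p q D → Odd (Nat.card G) := by
  intro n
  induction n using Nat.strong_induction_on with
  | _ n ih =>
    intro G _ _ D hn h
    classical
    by_contra heven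
    have hproper : ∀ K, Closed D K → K ≠ ⊤ → Odd (Nat.card K) := fun K hK hKt =>
      ih _ (hn ▸ Nat.lt_of_le_of_ne (Subgroup.card_le_card_group K)
        fun e => hKt (Subgroup.eq_top_of_card_eq K e)) rfl (h.restrict hK)
    have hquot : ∀ (N : Subgroup G) [N.Normal], N ≠ ⊥ → (∀ A ∈ D, ¬ A ≤ N) →
        (∀ K, Closed D K → Odd (Nat.card (K.map (QuotientGroup.mk' N))) → Odd (Nat.card K)) → False := by
      intro N hN hNb hmem hlift
      have hlt : Nat.card (G ⧸ N) < n := by
        rw [← hn, ← N.card_mul_index, Subgroup.index_eq_card]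
        exact lt_mul_of_one_lt_left Nat.card_pos ((Subgroup.one_lt_card_iff_ne_bot N).mpr hNb)
      have hq := ih _ hlt rfl (h.quotient (QuotientGroup.mk'_surjective N)
        (by rw [QuotientGroup.ker_mk']; exact hmem) hlift)
      have htop : Closed D ⊤ := by
        rw [Closed, ← h.gen]
        exact sSup_le_sSup fun B hB => ⟨hB, h.gen ▸ le_top⟩
      have h1 := hlift ⊤ htop (by
        rw [Subgroup.map_top_of_surjective _ (QuotientGroup.mk'_surjective N), Subgroup.card_top]
        exact hq)
      rw [Subgroup.card_top] at h1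
      exact heven h1
    -- all members are conjugate
    have hnormal : ∀ N : Subgroup G, N.Normal → ∀ A ∈ D, A ≤ N → N = ⊤ := by
      intro N hN A hA hAN
      haveI := hN
      rw [eq_top_iff, ← h.gen]
      refine sSup_le fun B hB => ?_
      obtain ⟨x, -, rfl⟩ :=
        (h.shape _ (h.odd_pair A hA B hB) (closed_sup hA hB) A hA le_sup_left).conj_mem B hB le_sup_right
      exact (Subgroup.pointwise_smul_le_pointwise_smul_iff.mpr hAN).trans
        (Subgroup.Normal.conjAct hN x).le
    have hcore : Cfsg.pPrimeCore 2 G = ⊥ := by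
      by_contra hO
      have hOodd : Odd (Nat.card (Cfsg.pPrimeCore 2 G)) :=
        Nat.coprime_two_right.mp (Transfer.pPrimeCore_coprime 2)
      haveI := Transfer.pPrimeCore_normal 2 G
      refine hquot _ hO (fun A hA hAO => heven ?_) fun K _ hK => ?_
      · have h1 := hnormal _ (Transfer.pPrimeCore_normal 2 G) A hA hAO
        rw [h1, Subgroup.card_top] at hOodd
        exact hOodd
      · haveI := Transfer.pPrimeCore_normal 2 G
        set O := Cfsg.pPrimeCore 2 G
        have h1 := Subgroup.card_eq_card_quotient_mul_card_subgroup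
          (((QuotientGroup.mk' O).comp K.subtype).ker)
        rw [Nat.card_congr (QuotientGroup.quotientKerEquivRange _).toEquiv,
          MonoidHom.range_comp, Subgroup.range_subtype] at h1
        rw [h1]
        refine hK.mul (hOodd.of_dvd_nat ?_)
        rw [← MonoidHom.comap_ker, QuotientGroup.ker_mk', ← Subgroup.subgroupOf, ← Subgroup.inf_subgroupOf_right,
          Nat.card_congr (Subgroup.subgroupOfEquivOfLe inf_le_right).toEquiv]
        exact Subgroup.card_dvd_of_le inf_le_left
    have hcen : ∀ z ∈ Subgroup.center G, orderOf z ≠ 2 := by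
      intro z hz hz2
      have hzN : (Subgroup.zpowers z).Normal := ⟨fun x hx g => by
        rw [Subgroup.mem_center_iff.mp (Subgroup.zpowers_le.mpr hz hx) g, mul_inv_cancel_right]
        exact hx⟩
      haveI := hzN
      refine hquot (Subgroup.zpowers z) (fun e => by
        rw [Subgroup.zpowers_eq_bot] at e
        rw [e, orderOf_one] at hz2
        exact absurd hz2 (by norm_num)) (fun A hA hle => ?_) fun K hK hKodd => ?_
      · have := Subgroup.card_dvd_of_le hle
        rw [h.card A hA, Nat.card_zpowers, hz2] at this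
        exact h.p_ne_two ((Nat.prime_dvd_prime_iff_eq h.pp Nat.prime_two).mp this)
      · haveI := hzN
        set f := (QuotientGroup.mk' (Subgroup.zpowers z)).comp K.subtype
        have h1 := Subgroup.card_eq_card_quotient_mul_card_subgroup f.ker
        rw [Nat.card_congr (QuotientGroup.quotientKerEquivRange f).toEquiv,
          MonoidHom.range_comp, Subgroup.range_subtype] at h1
        have hkd : Nat.card f.ker ∣ 2 := by
          rw [← MonoidHom.comap_ker, QuotientGroup.ker_mk', ← Subgroup.subgroupOf, ← Subgroup.inf_subgroupOf_right,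
            Nat.card_congr (Subgroup.subgroupOfEquivOfLe inf_le_right).toEquiv]
          refine (Subgroup.card_dvd_of_le inf_le_left).trans ?_
          rw [Nat.card_zpowers, hz2]
        rcases (Nat.dvd_prime Nat.prime_two).mp hkd with hk | hk
        · rw [h1, hk, mul_one]; exact hKodd
        exfalso
        have hidx : f.ker.index = Nat.card (K.map (QuotientGroup.mk' (Subgroup.zpowers z))) := by
          rw [Subgroup.index_ker, MonoidHom.range_comp, Subgroup.range_subtype]
        obtain ⟨H, hH⟩ := Subgroup.exists_left_complement'_of_coprime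
          (N := f.ker) (by rw [hk, hidx]; exact hKodd.coprime_two_left)
        have hH2 : H.index = 2 := hH.symm.index_eq_card.trans hk
        have hle : K ≤ H.map K.subtype := hK.trans (sSup_le fun B hB => fun x hx => by
          refine ⟨⟨x, hB.2 hx⟩, ?_, rfl⟩
          have hxp : x ^ p = 1 := by
            have := pow_card_eq_one' (G := B) (x := ⟨x, hx⟩)
            rw [h.card B hB.1] at this
            exact congrArg Subtype.val this
          obtain ⟨j, hj⟩ := h.odd_p
          have h2 : (⟨x, hB.2 hx⟩ : K) = (⟨x, hB.2 hx⟩ ^ 2) ^ (j + 1) := by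
            apply Subtype.ext
            push_cast
            rw [← pow_mul, show 2 * (j + 1) = p + 1 by omega, pow_succ, hxp, one_mul]
          rw [SetLike.mem_coe, h2]
          exact pow_mem (Subgroup.sq_mem_of_index_two hH2 _) _)
        have hHtop : H = ⊤ := eq_top_iff.mpr fun x _ => by
          obtain ⟨y, hy, hyx⟩ := hle x.2
          rwa [← Subtype.ext hyx]
        rw [hHtop, Subgroup.index_top] at hH2
        exact absurd hH2 (by norm_num)
    have m : Minimal p q D := ⟨h, hproper, hcore⟩
    obtain ⟨t, ht, A, hA, htA⟩ := m.exists_centralising_involution hcen heven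
    obtain ⟨a, ha, ha1⟩ : ∃ a ∈ A, a ≠ 1 := by
      by_contra hcon
      push Not at hcon
      exact h.ne_bot hA (eq_bot_iff.mpr fun x hx => Subgroup.mem_bot.mpr (hcon x hx))
    obtain ⟨N, hN, hNt, haN⟩ := exists_normal_of_translates ht (a := a)
      fun M hM χ hχ g => m.value_translate hcen ht hA htA hM hχ ha g
    refine hNt (hnormal N hN A hA ?_)
    haveI := Fact.mk (h.card A hA ▸ h.pp : (Nat.card A).Prime)
    rcases Subgroup.eq_bot_or_eq_top_of_prime_card (N.subgroupOf A) with h1 | h1
    · rw [Subgroup.subgroupOf_eq_bot, disjoint_iff] at h1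
      exact absurd (Subgroup.mem_bot.mp (h1 ▸ Subgroup.mem_inf.mpr ⟨haN, ha⟩)) ha1
    · exact Subgroup.subgroupOf_eq_top.mp h1

end CfsgLib.PairwiseLine
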