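import Cfsg.Agent.Lib.PairwiseLine.Basic

/-!
# Elementary consequences of the configuration
-/

set_option autoImplicit false
set_option linter.style.haveILetI false
set_option linter.unusedSectionVars false

open Pointwise
open scoped commutatorElement

namespace CfsgLib.PairwiseLine

open CfsgLib.Coprime

variable {G : Type*} [Group G] {p q : ℕ} {D : Set (Subgroup G)}

/-- The subgroup generated by the members that `z` centralises. -/
def cenHull (D : Set (Subgroup G)) (z : G) : Subgroup G :=
  hull D fun B => B ≤ Subgroup.centralizer {z}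

theorem le_centralizer_singleton_of_mem {K : Subgroup G} {z : G}
    (hz : z ∈ Subgroup.centralizer (K : Set G)) : K ≤ Subgroup.centralizer {z} := fun x hx =>
  Subgroup.mem_centralizer_singleton_iff.mpr (hz x hx)

theorem mem_centralizer_of_le {K : Subgroup G} {z : G} (h : K ≤ Subgroup.centralizer {z}) :
    z ∈ Subgroup.centralizer (K : Set G) := fun _ hx =>
  Subgroup.mem_centralizer_singleton_iff.mp (h hx)

theorem cenHull_le_centralizer (D : Set (Subgroup G)) (z : G) :
    cenHull D z ≤ Subgroup.centralizer {z} :=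
  hull_le fun _ _ hB => hB

theorem le_cenHull {K : Subgroup G} {z : G} (hK : Closed D K)
    (hz : z ∈ Subgroup.centralizer (K : Set G)) : K ≤ cenHull D z :=
  hK.trans (sSup_le fun _ hB => le_hull hB.1 (hB.2.trans (le_centralizer_singleton_of_mem hz)))

theorem conj_smul_centralizer_singleton (g z : G) :
    MulAut.conj g • Subgroup.centralizer ({z} : Set G)
      = Subgroup.centralizer {g * z * g⁻¹} := by
  ext x
  rw [Coprime.mem_conj_smul_iff, Subgroup.mem_centralizer_singleton_iff,
    Subgroup.mem_centralizer_singleton_iff]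
  constructor <;> intro h
  · calc x * (g * z * g⁻¹) = g * (g⁻¹ * x * g * z) * g⁻¹ := by group
      _ = g * (z * (g⁻¹ * x * g)) * g⁻¹ := by rw [h]
      _ = g * z * g⁻¹ * x := by group
  · calc g⁻¹ * x * g * z = g⁻¹ * (x * (g * z * g⁻¹)) * g := by group
      _ = g⁻¹ * (g * z * g⁻¹ * x) * g := by rw [h]
      _ = z * (g⁻¹ * x * g) := by group

theorem conj_inv_smul_cancel (g : G) (B : Subgroup G) :
    MulAut.conj g⁻¹ • (MulAut.conj g • B) = B := by
  rw [map_inv, inv_smul_smul]

theorem conj_smul_centralizer (g : G) (K : Subgroup G) :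
    MulAut.conj g • Subgroup.centralizer (K : Set G)
      = Subgroup.centralizer ((MulAut.conj g • K : Subgroup G) : Set G) := by
  ext x
  rw [Coprime.mem_conj_smul_iff]
  constructor
  · rintro h _ ⟨y, hy, rfl⟩
    show g * y * g⁻¹ * x = x * (g * y * g⁻¹)
    calc g * y * g⁻¹ * x = g * (y * (g⁻¹ * x * g)) * g⁻¹ := by group
      _ = g * ((g⁻¹ * x * g) * y) * g⁻¹ := by rw [h y hy]
      _ = x * (g * y * g⁻¹) := by group
  · intro h y hy
    have h1 := h _ (Coprime.conj_mem_conj_smul (g := g) hy)
    calc y * (g⁻¹ * x * g) = g⁻¹ * (g * y * g⁻¹ * x) * g := by group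
      _ = g⁻¹ * (x * (g * y * g⁻¹)) * g := by rw [h1]
      _ = g⁻¹ * x * g * y := by group

namespace GEN

variable [Finite G] (h : GEN p q D)

include h in
theorem odd_p : Odd p := h.pp.odd_of_ne_two h.p_ne_two

include h in
theorem ne_bot {A : Subgroup G} (hA : A ∈ D) : A ≠ ⊥ := fun e => by
  have := h.card A hA
  rw [e, Subgroup.card_bot] at this
  exact h.pp.one_lt.ne this

include h in
theorem eq_of_le {A B : Subgroup G} (hA : A ∈ D) (hB : B ∈ D) (hle : A ≤ B) : A = B :=
  Subgroup.eq_of_le_of_card_ge hle (by rw [h.card A hA, h.card B hB])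

include h in
theorem isPGroup {A : Subgroup G} (hA : A ∈ D) : IsPGroup p A :=
  IsPGroup.of_card (n := 1) (by rw [h.card A hA, pow_one])

include h in
theorem eq_of_centralizes {A B : Subgroup G} (hA : A ∈ D) (hB : B ∈ D)
    (hc : A ≤ Subgroup.centralizer (B : Set G)) : A = B :=
  h.single A hA B hB _ ((h.isPGroup hA).to_sup_of_normal_right' (h.isPGroup hB)
    (hc.trans (Subgroup.centralizer_le_normalizer _))) le_sup_left le_sup_right

include h in
theorem conj_le_conj {A : Subgroup G} {K : Subgroup G} {g : G} (hA : A ∈ D) (hle : A ≤ K)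
    (hg : MulAut.conj g • K = K) : MulAut.conj g • A ∈ D ∧ MulAut.conj g • A ≤ K :=
  ⟨h.conj A hA g, (Subgroup.pointwise_smul_le_pointwise_smul_iff.mpr hle).trans hg.le⟩

include h in
/-- An element normalises the hull of a family of members that it permutes. -/
theorem conj_smul_hull {P : Subgroup G → Prop} {g : G}
    (hP : ∀ B ∈ D, P B → P (MulAut.conj g • B)) : MulAut.conj g • hull D P = hull D P := by
  refine Subgroup.eq_of_le_of_card_ge ?_ (Coprime.card_conj_smul g _).ge
  rw [Subgroup.pointwise_smul_subset_iff]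
  refine hull_le fun B hB hPB => ?_
  rw [← Subgroup.pointwise_smul_subset_iff]
  exact le_hull (h.conj B hB g) (hP B hB hPB)

include h in
theorem closed_conj {K : Subgroup G} (hK : Closed D K) (g : G) :
    Closed D (MulAut.conj g • K) := by
  intro x hx
  have h1 : K ≤ MulAut.conj g⁻¹ • sSup {B | B ∈ D ∧ B ≤ MulAut.conj g • K} := by
    refine hK.trans (sSup_le fun B hB => ?_)
    rw [map_inv, ← Subgroup.pointwise_smul_subset_iff]
    exact le_sSup (α := Subgroup G)
      ⟨h.conj B hB.1 g, Subgroup.pointwise_smul_le_pointwise_smul_iff.mpr hB.2⟩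
  have h2 := Subgroup.pointwise_smul_le_pointwise_smul_iff (a := MulAut.conj g).mpr h1
  rw [map_inv, smul_inv_smul] at h2
  exact h2 hx

include h in
theorem conj_smul_cenHull (g z : G) :
    MulAut.conj g • cenHull D z = cenHull D (g * z * g⁻¹) := by
  apply le_antisymm
  · rw [Subgroup.pointwise_smul_subset_iff]
    refine hull_le fun B hB hBz => ?_
    rw [← Subgroup.pointwise_smul_subset_iff]
    refine le_hull (h.conj B hB g) ?_
    rw [← conj_smul_centralizer_singleton]
    exact Subgroup.pointwise_smul_le_pointwise_smul_iff.mpr hBz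
  · refine hull_le fun B hB hBz => ?_
    rw [Subgroup.subset_pointwise_smul_iff, ← map_inv]
    refine le_hull (h.conj B hB g⁻¹) ?_
    rw [← conj_smul_centralizer_singleton] at hBz
    rw [map_inv, ← Subgroup.subset_pointwise_smul_iff]
    exact hBz

include h in
/-- A group generated by members centralised by `z` is normalised by whoever centralises `z`. -/
theorem conj_smul_cenHull_of_commute {g z : G} (hc : Commute g z) :
    MulAut.conj g • cenHull D z = cenHull D z := by
  rw [h.conj_smul_cenHull, hc.eq, mul_inv_cancel_right]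

include h in
theorem cenHull_eq_top {z : G} (htop : cenHull D z = ⊤) : z ∈ Subgroup.center G :=
  Subgroup.mem_center_iff.mpr fun x =>
    Subgroup.mem_centralizer_singleton_iff.mp
      (cenHull_le_centralizer D z (htop ▸ Subgroup.mem_top x))

include h in
theorem mem_center_of_centralizes {z : G} (hz : ∀ B ∈ D, B ≤ Subgroup.centralizer {z}) :
    z ∈ Subgroup.center G := by
  refine h.cenHull_eq_top (top_le_iff.mp ?_)
  rw [← h.gen]
  exact sSup_le fun B hB => le_hull hB (hz B hB)

variable {K A : Subgroup G}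

include h in
theorem normalizer_qPart (hAK : A ≤ K) : A ≤ Subgroup.normalizer (qPart q K : Set G) :=
  hAK.trans (le_normalizer_qPart K)

include h in
theorem coprime_qPart (hA : A ∈ D) (hS : Shape q D A K) :
    (Nat.card (qPart q K)).Coprime (Nat.card A) := by
  haveI := Fact.mk h.qq
  obtain ⟨k, hk⟩ := IsPGroup.iff_card.mp hS.isPGroup
  rw [hk, h.card A hA]
  exact Nat.Coprime.pow_left k ((Nat.coprime_primes h.qq h.pp).mpr h.ne)

include h in
theorem odd_card_qPart (hS : Shape q D A K) : Odd (Nat.card (qPart q K)) := by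
  haveI := Fact.mk h.qq
  obtain ⟨k, hk⟩ := IsPGroup.iff_card.mp hS.isPGroup
  rw [hk]
  exact (h.qq.odd_of_ne_two h.q_ne_two).pow

include h in
/-- An element of the kernel normalising `A` centralises `K`. -/
theorem mem_centralizer_of_normalizes (hA : A ∈ D) (hAK : A ≤ K) (hS : Shape q D A K) {x : G}
    (hx : x ∈ qPart q K) (hn : MulAut.conj x • A = A) : x ∈ Subgroup.centralizer (K : Set G) :=
  hS.fixed (Subgroup.mem_inf.mpr ⟨hx, Coprime.commute_of_mem_normalizer (h.normalizer_qPart hAK)
    (Coprime.inf_eq_bot_of_coprime_card (h.coprime_qPart hA hS)) hx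
    (Coprime.mem_normalizer_iff_conj_smul.mpr hn)⟩)

include h in
theorem conj_eq_conj_iff (hA : A ∈ D) (hAK : A ≤ K) (hS : Shape q D A K) {x y : G}
    (hx : x ∈ qPart q K) (hy : y ∈ qPart q K) :
    MulAut.conj x • A = MulAut.conj y • A ↔ x⁻¹ * y ∈ Subgroup.centralizer (K : Set G) := by
  have h1 : MulAut.conj x • A = MulAut.conj y • A ↔ MulAut.conj (x⁻¹ * y) • A = A := by
    rw [map_mul, map_inv, mul_smul, inv_smul_eq_iff, eq_comm]
  rw [h1]
  refine ⟨h.mem_centralizer_of_normalizes hA hAK hS (mul_mem (inv_mem hx) hy), fun hc => ?_⟩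
  exact Coprime.conj_smul_eq_self_of_mem_normalizer
    (Subgroup.centralizer_le_normalizer _ (Subgroup.centralizer_le hAK hc))

include h in
theorem exists_two (hK : Closed D K) (hA : A ∈ D) (hne : ¬ K ≤ A) :
    ∃ B ∈ D, B ≤ K ∧ B ≠ A := by
  by_contra hcon
  push Not at hcon
  exact hne (hK.trans (sSup_le fun B hB => (hcon B hB.1 hB.2).le))

include h in
/-- The centre of a group generated by at least two members lies in the kernel. -/
theorem center_le_qPart {B : Subgroup G} (hA : A ∈ D) (hB : B ∈ D) (hne : A ≠ B)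
    (hAK : A ≤ K) (hBK : B ≤ K) (hS : Shape q D A K) :
    K ⊓ Subgroup.centralizer (K : Set G) ≤ qPart q K := by
  intro z hz
  obtain ⟨hzK, hzC⟩ := Subgroup.mem_inf.mp hz
  rw [← hS.sup_eq, ← SetLike.mem_coe, Subgroup.coe_mul_of_right_le_normalizer_left _ A
    (h.normalizer_qPart hAK)] at hzK
  obtain ⟨x, hx, a, ha, rfl⟩ := hzK
  suffices a = 1 by subst this; simpa using hx
  by_contra ha1
  have hza : MulAut.conj (x * a) • A = A := Coprime.conj_smul_eq_self_of_mem_normalizer
    (Subgroup.centralizer_le_normalizer _ (Subgroup.centralizer_le hAK hzC))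
  rw [map_mul, mul_smul, Coprime.conj_smul_eq_of_mem ha] at hza
  have hxC := h.mem_centralizer_of_normalizes hA hAK hS hx hza
  have haC : a ∈ Subgroup.centralizer (K : Set G) := by
    have := mul_mem (inv_mem hxC) hzC
    rwa [inv_mul_cancel_left] at this
  refine hne (h.eq_of_centralizes hA hB ?_)
  have hle : Subgroup.zpowers a ≤ A := Subgroup.zpowers_le.mpr ha
  have hA' : Subgroup.zpowers a = A := by
    haveI := Fact.mk (h.card A hA ▸ h.pp : (Nat.card A).Prime)
    refine Subgroup.eq_of_le_of_card_ge hle ?_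
    rcases (Nat.dvd_prime (h.card A hA ▸ h.pp)).mp (Subgroup.card_dvd_of_le hle) with h1 | h1
    · exact absurd (Subgroup.zpowers_eq_bot.mp (Subgroup.card_eq_one.mp h1)) ha1
    · rw [h1]
  rw [← hA', Subgroup.zpowers_le]
  exact Subgroup.centralizer_le hBK haC

include h in
/-- If `x` normalises `B` and centralises `A`, it centralises `B`. -/
theorem centralizes_of_normalizes {B : Subgroup G} {x : G} (hA : A ∈ D) (hB : B ∈ D)
    (hxA : x ∈ Subgroup.centralizer (A : Set G)) (hxB : MulAut.conj x • B = B) :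
    x ∈ Subgroup.centralizer (B : Set G) := by
  have hxA' : MulAut.conj x • A = A :=
    Coprime.conj_smul_eq_self_of_mem_normalizer (Subgroup.centralizer_le_normalizer _ hxA)
  have hS := h.shape (A ⊔ B) (h.odd_pair A hA B hB) (closed_sup hA hB) A hA le_sup_left
  obtain ⟨r, hr, hBr⟩ := hS.conj_mem B hB le_sup_right
  have hxT : MulAut.conj x • (A ⊔ B) = A ⊔ B := by rw [Subgroup.smul_sup, hxA', hxB]
  have hr' : x * r * x⁻¹ ∈ qPart q (A ⊔ B) :=
    (Subgroup.mem_normalizer_iff.mp (mem_normalizer_qPart hxT) r).mp hr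
  have he : MulAut.conj r • A = MulAut.conj (x * r * x⁻¹) • A := by
    rw [← hBr, map_mul, map_mul, mul_smul, mul_smul, map_inv,
      show (MulAut.conj x)⁻¹ • A = A from inv_smul_eq_iff.mpr hxA'.symm, ← hBr, hxB]
  have hc := (h.conj_eq_conj_iff hA le_sup_left hS hr hr').mp he
  intro b hb
  rw [SetLike.mem_coe, hBr, Coprime.mem_conj_smul_iff] at hb
  set a := r⁻¹ * b * r
  have hb' : b = r * a * r⁻¹ := by simp only [a]; group
  have hca : r⁻¹ * (x * r * x⁻¹) * a = a * (r⁻¹ * (x * r * x⁻¹)) :=
    (hc a (Subgroup.mem_sup_left hb)).symm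
  have hxa : a * x = x * a := hxA a hb
  rw [hb']
  calc r * a * r⁻¹ * x = r * (a * (r⁻¹ * (x * r * x⁻¹))) * x * r⁻¹ := by group
    _ = r * (r⁻¹ * (x * r * x⁻¹) * a) * x * r⁻¹ := by rw [hca]
    _ = x * r * x⁻¹ * (a * x) * r⁻¹ := by group
    _ = x * r * x⁻¹ * (x * a) * r⁻¹ := by rw [hxa]
    _ = x * (r * a * r⁻¹) := by group

include h in
/-- A group of odd order generated by members has oddly many members. -/
theorem odd_members (hodd : Odd (Nat.card K)) (hK : Closed D K) (hA : A ∈ D) (hAK : A ≤ K) :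
    Odd (Nat.card {B : Subgroup G // B ∈ D ∧ B ≤ K}) := by
  have hS := h.shape K hodd hK A hA hAK
  set C := (Subgroup.centralizer (K : Set G)).subgroupOf (qPart q K)
  have hwd : ∀ x y : qPart q K, x⁻¹ * y ∈ C →
      MulAut.conj (x : G) • A = MulAut.conj (y : G) • A := fun x y hxy =>
    (h.conj_eq_conj_iff hA hAK hS x.2 y.2).mpr (Subgroup.mem_subgroupOf.mp hxy)
  have hin : ∀ x : qPart q K, MulAut.conj (x : G) • A ∈ D ∧ MulAut.conj (x : G) • A ≤ K :=
    fun x => h.conj_le_conj hA hAK (Coprime.conj_smul_eq_of_mem (qPart_le K x.2))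
  let φ : qPart q K ⧸ C → {B : Subgroup G // B ∈ D ∧ B ≤ K} := Quotient.lift
    (fun x => ⟨MulAut.conj (x : G) • A, hin x⟩) fun x y hxy =>
      Subtype.ext (hwd x y (QuotientGroup.leftRel_apply.mp hxy))
  have hbij : Function.Bijective φ := by
    constructor
    · intro u v huv
      obtain ⟨x, rfl⟩ := QuotientGroup.mk_surjective u
      obtain ⟨y, rfl⟩ := QuotientGroup.mk_surjective v
      exact QuotientGroup.eq.mpr
        (Subgroup.mem_subgroupOf.mpr ((h.conj_eq_conj_iff hA hAK hS x.2 y.2).mp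
          (congrArg Subtype.val huv)))
    · rintro ⟨B, hB, hBK⟩
      obtain ⟨x, hx, rfl⟩ := hS.conj_mem B hB hBK
      exact ⟨QuotientGroup.mk ⟨x, hx⟩, rfl⟩
  rw [← Nat.card_congr (Equiv.ofBijective φ hbij)]
  exact (h.odd_card_qPart hS).of_dvd_nat (Subgroup.card_quotient_dvd_card C)

include h in
/-- If some kernel has a fixed point, all kernels have central derived subgroup. -/
theorem class_two (hodd : Odd (Nat.card K)) (hK : Closed D K) (hA : A ∈ D) (hAK : A ≤ K)
    {z : G} (hz : z ∈ qPart q K) (hzA : z ∈ Subgroup.centralizer (A : Set G)) (hz1 : z ≠ 1) :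
    ∀ L : Subgroup G, Odd (Nat.card L) → Closed D L → ∀ B ∈ D, B ≤ L →
      ⁅qPart q L, qPart q L⁆ ≤ Subgroup.centralizer (L : Set G) :=
  h.dich.resolve_left fun h0 => hz1
    (Subgroup.mem_bot.mp (h0 K hodd hK A hA hAK ▸ Subgroup.mem_inf.mpr ⟨hz, hzA⟩))

end GEN

end CfsgLib.PairwiseLine
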